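import Cfsg.Agent.Lib.Golay.Suborbit
import Cfsg.Agent.Lib.Golay.Mathieu
import Cfsg.Agent.S0282

/-!
Tools for finding all subgroups of a given index: conjugating a prime-power subgroup in, orbits as
unions of orbits of a smaller group, lower bounds for orbits of sets, perfect subgroups.
-/

set_option autoImplicit false

namespace Cfsg.Agent.Golay24.Index

noncomputable section

open Cfsg
open scoped Pointwise

/-- Permutations of the points. -/
scoped notation "P24" => Equiv.Perm GolayPt

/-- The stabiliser of a set inside a subgroup. -/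
abbrev setStab (G : Subgroup P24) (U : Finset GolayPt) : Subgroup P24 :=
  G ⊓ MulAction.stabilizer P24 U

/-- The image of a subgroup under conjugation. -/
abbrev conjBy (g : P24) (H : Subgroup P24) : Subgroup P24 := H.map (MulAut.conj g).toMonoidHom

theorem mem_conjBy {g x : P24} {H : Subgroup P24} : x ∈ conjBy g H ↔ g⁻¹ * x * g ∈ H := by
  constructor
  · rintro ⟨y, hy, rfl⟩
    simpa [mul_assoc] using hy
  · intro h
    exact ⟨_, h, by simp [mul_assoc]⟩

theorem card_conjBy (g : P24) (H : Subgroup P24) : Nat.card (conjBy g H) = Nat.card H :=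
  (Nat.card_congr (H.equivMapOfInjective _ (MulAut.conj g).injective).toEquiv).symm

theorem conjBy_le {g : P24} {G H : Subgroup P24} (hg : g ∈ G) (h : H ≤ G) : conjBy g H ≤ G := by
  intro x hx
  have := G.mul_mem (G.mul_mem hg (h (mem_conjBy.1 hx))) (G.inv_mem hg)
  simpa [mul_assoc] using this

theorem conjBy_conjBy (a b : P24) (H : Subgroup P24) : conjBy a (conjBy b H) = conjBy (a * b) H := by
  ext x
  simp only [mem_conjBy, mul_inv_rev, mul_assoc]

theorem conjBy_one (H : Subgroup P24) : conjBy 1 H = H := by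
  ext x; simp [mem_conjBy]

theorem conjBy_setStab {g : P24} {G : Subgroup P24} (hg : g ∈ G) (U : Finset GolayPt) :
    conjBy g (setStab G U) = setStab G (g • U) := by
  ext x
  rw [mem_conjBy, Subgroup.mem_inf, Subgroup.mem_inf, MulAction.mem_stabilizer_iff,
    MulAction.mem_stabilizer_iff, mul_smul, mul_smul, inv_smul_eq_iff]
  refine and_congr ⟨fun h => ?_, fun h => G.mul_mem (G.mul_mem (G.inv_mem hg) h) hg⟩ Iff.rfl
  have := G.mul_mem (G.mul_mem hg h) (G.inv_mem hg)
  simpa [mul_assoc] using this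

theorem conjBy_inf_stabilizer (g : P24) (H : Subgroup P24) (x : GolayPt) :
    conjBy g (H ⊓ MulAction.stabilizer P24 x) = conjBy g H ⊓ MulAction.stabilizer P24 (g x) := by
  ext y
  rw [mem_conjBy, Subgroup.mem_inf, Subgroup.mem_inf, mem_conjBy, MulAction.mem_stabilizer_iff,
    MulAction.mem_stabilizer_iff, mul_smul, mul_smul, inv_smul_eq_iff]
  rfl

/-- A prime-power subgroup is conjugate into every subgroup of coprime index. -/
theorem exists_conj_le (p : ℕ) [Fact p.Prime] {G H T : Subgroup P24} (hH : H ≤ G) (hT : T ≤ G)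
    (hTp : IsPGroup p T) {n : ℕ} (hn : n * Nat.card H = Nat.card G) (hpn : ¬ p ∣ n) :
    ∃ g ∈ G, T ≤ conjBy g H := by
  let Q := ↥G ⧸ H.subgroupOf G
  have hcard : Nat.card Q = n := by
    have h := (H.subgroupOf G).index_mul_card
    rw [Nat.card_congr (Subgroup.subgroupOfEquivOfLe hH).toEquiv, ← hn] at h
    exact Nat.eq_of_mul_eq_mul_right Nat.card_pos h
  letI : MulAction T Q := MulAction.compHom Q (Subgroup.inclusion hT)
  obtain ⟨q, hq⟩ := hTp.nonempty_fixed_point_of_prime_not_dvd_card Q (hcard ▸ hpn)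
  obtain ⟨g, rfl⟩ := QuotientGroup.mk_surjective q
  refine ⟨g, g.2, fun t ht => ?_⟩
  have h : ((Subgroup.inclusion hT ⟨t, ht⟩ * g : ↥G) : Q) = (g : Q) := hq ⟨t, ht⟩
  rw [QuotientGroup.eq, Subgroup.mem_subgroupOf] at h
  rw [mem_conjBy]
  have h' := H.inv_mem h
  simpa [mul_assoc] using h'

/-! ### Orbits -/

open Classical in
/-- The orbit of a point as a finset. -/
def hOrb (H : Subgroup P24) (a : GolayPt) : Finset GolayPt :=
  Finset.univ.filter fun b => ∃ h ∈ H, h a = b

theorem mem_hOrb {H : Subgroup P24} {a b : GolayPt} : b ∈ hOrb H a ↔ ∃ h ∈ H, h a = b := by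
  simp [hOrb]

theorem self_mem_hOrb (H : Subgroup P24) (a : GolayPt) : a ∈ hOrb H a :=
  mem_hOrb.2 ⟨1, H.one_mem, rfl⟩

theorem smul_hOrb {H : Subgroup P24} {h : P24} (hh : h ∈ H) (a : GolayPt) :
    h • hOrb H a = hOrb H a := by
  refine Finset.eq_of_subset_of_card_le ?_ (le_of_eq (Finset.card_smul_finset _ _).symm)
  intro y hy
  obtain ⟨b, hb, rfl⟩ := Finset.mem_smul_finset.1 hy
  obtain ⟨k, hk, rfl⟩ := mem_hOrb.1 hb
  exact mem_hOrb.2 ⟨h * k, H.mul_mem hh hk, rfl⟩

theorem le_setStab_hOrb {G H : Subgroup P24} (hH : H ≤ G) (a : GolayPt) :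
    H ≤ setStab G (hOrb H a) := fun h hh => ⟨hH hh, smul_hOrb hh a⟩

theorem card_hOrb_mul (H : Subgroup P24) (a : GolayPt) :
    (hOrb H a).card * Nat.card ↥(H ⊓ MulAction.stabilizer P24 a) = Nat.card H := by
  have h := (MulAction.stabilizer H a).index_mul_card
  rw [MulAction.index_stabilizer, Nat.card_congr (stabInfEquiv H a).toEquiv] at h
  rw [← h]
  congr 1
  rw [← Set.ncard_coe_finset]
  congr 1
  ext b
  simp [mem_hOrb, MulAction.mem_orbit_iff, Subgroup.smul_def]

theorem hOrb_dvd (H : Subgroup P24) (a : GolayPt) : (hOrb H a).card ∣ Nat.card H :=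
  ⟨_, (card_hOrb_mul H a).symm⟩

/-! ### Invariant sets are unions of orbits -/

/-- Each position after the first is the image of an earlier one under a generator. -/
def connB (gens : List ℕ) : List ℕ → List ℕ → Bool
  | _, [] => true
  | seen, k :: rest =>
    (seen.isEmpty || gens.any fun g => seen.any fun j => app g j == k) &&
      connB gens (seen ++ [k]) rest

/-- All orbits are connected and cover. -/
def orbsOk (gens : List ℕ) (orbs : List (List ℕ)) : Bool :=
  gens.all validP && orbs.all (fun o => connB gens [] o && o.all fun k => Nat.blt k 24) &&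
    (List.range 24).all fun i => orbs.any fun o => o.contains i

/-- The mask of a list of positions. -/
def listMask (o : List ℕ) : ℕ := o.foldr (fun k m => Nat.lor (Nat.shiftLeft 1 k) m) 0

/-- All unions. -/
def unionMasks : List (List ℕ) → List ℕ
  | [] => [0]
  | o :: l => let r := unionMasks l; r ++ r.map (Nat.lor (listMask o))

theorem testBit_listMask (o : List ℕ) (i : ℕ) : (listMask o).testBit i = true ↔ i ∈ o := by
  induction o with
  | nil => simp [listMask]
  | cons k o ih =>
    have e : listMask (k :: o) = (1 <<< k) ||| listMask o := rfl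
    rw [e, Nat.testBit_or, Bool.or_eq_true, ih, Nat.one_shiftLeft, Nat.testBit_two_pow,
      decide_eq_true_eq, List.mem_cons]
    exact or_congr eq_comm Iff.rfl

theorem conn_iff {gens : List ℕ} {P : ℕ → Prop} {r : ℕ}
    (hP : ∀ g ∈ gens, ∀ j < 24, P j ↔ P (app g j)) :
    ∀ (rest seen : List ℕ), connB gens seen rest = true → seen.head? = some r →
      (∀ j ∈ seen, j < 24 ∧ (P j ↔ P r)) → (∀ k ∈ rest, k < 24) → ∀ k ∈ rest, (P k ↔ P r) := by
  intro rest
  induction rest with
  | nil => intro seen _ _ _ _ k hk; simp at hk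
  | cons a rest ih =>
    intro seen h hd hs hlt k hk
    simp only [connB, Bool.and_eq_true, Bool.or_eq_true, List.any_eq_true, beq_iff_eq] at h
    have hne : seen.isEmpty ≠ true := by cases seen <;> simp_all
    obtain ⟨g, hg, j, hj, rfl⟩ := h.1.resolve_left hne
    have ha : P (app g j) ↔ P r := (hP g hg j (hs j hj).1).symm.trans (hs j hj).2
    rcases List.mem_cons.1 hk with rfl | hk
    · exact ha
    · refine ih (seen ++ [app g j]) h.2 (by cases seen <;> simp_all) (fun i hi => ?_)
        (fun i hi => hlt i (List.mem_cons_of_mem _ hi)) k hk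
      rcases List.mem_append.1 hi with hi | hi
      · exact hs i hi
      · rw [List.mem_singleton] at hi
        exact hi ▸ ⟨hlt _ List.mem_cons_self, ha⟩

theorem invariant_mem_unions {gens : List ℕ} {orbs : List (List ℕ)} (h : orbsOk gens orbs = true)
    {U : Finset GolayPt} (hU : ∀ g ∈ gens, toPerm g • U = U) :
    ∃ m ∈ unionMasks orbs, U = setOf m := by
  classical
  simp only [orbsOk, Bool.and_eq_true, List.all_eq_true, List.any_eq_true, List.mem_range,
    Nat.blt_eq, List.contains_iff_mem] at h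
  obtain ⟨⟨hv, ho⟩, hcov⟩ := h
  let P : ℕ → Prop := fun j => ∃ x ∈ U, (idx x : ℕ) = j
  have hP : ∀ g ∈ gens, ∀ j < 24, P j ↔ P (app g j) := by
    intro g hg j hj
    constructor
    · rintro ⟨x, hx, rfl⟩
      exact ⟨toPerm g x, hU g hg ▸ Finset.smul_mem_smul_finset hx, idx_toPerm (hv g hg) x⟩
    · rintro ⟨y, hy, he⟩
      rw [← hU g hg] at hy
      obtain ⟨x, hx, rfl⟩ := Finset.mem_smul_finset.1 hy
      have e : toPerm g x = toPerm g (pt ⟨j, hj⟩) := idx_inj.1 (Fin.ext (by
        rw [Equiv.Perm.smul_def] at he; rw [he, idx_toPerm (hv g hg), idx_pt]))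
      exact ⟨x, hx, by rw [(toPerm g).injective e, idx_pt]⟩
  have hall : ∀ o ∈ orbs, (∀ k ∈ o, P k) ∨ ∀ k ∈ o, ¬ P k := by
    intro o hoo
    obtain ⟨hc, hlt⟩ := ho o hoo
    cases o with
    | nil => exact Or.inl (by simp)
    | cons r rest =>
      simp only [connB, List.isEmpty_nil, Bool.true_or, Bool.true_and, List.nil_append] at hc
      have key : ∀ k ∈ rest, (P k ↔ P r) := conn_iff hP rest [r] hc rfl (fun j hj => by
        rw [List.mem_singleton] at hj; subst hj; exact ⟨hlt j List.mem_cons_self, Iff.rfl⟩)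
        fun k hk => hlt k (List.mem_cons_of_mem _ hk)
      by_cases hr : P r
      · exact Or.inl fun k hk => (List.mem_cons.1 hk).elim (fun e => e ▸ hr) fun e => (key k e).2 hr
      · exact Or.inr fun k hk => (List.mem_cons.1 hk).elim (fun e => e ▸ hr) fun e hp =>
          hr ((key k e).1 hp)
  have build : ∀ l : List (List ℕ), (∀ o ∈ l, (∀ k ∈ o, P k) ∨ ∀ k ∈ o, ¬ P k) →
      ∃ m ∈ unionMasks l, ∀ i : ℕ, m.testBit i = true ↔ P i ∧ ∃ o ∈ l, i ∈ o := by
    intro l
    induction l with
    | nil => exact fun _ => ⟨0, by simp [unionMasks], fun i => by simp⟩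
    | cons o l ih =>
      intro hl
      obtain ⟨m, hm, hmi⟩ := ih fun o' ho' => hl o' (List.mem_cons_of_mem _ ho')
      rcases hl o List.mem_cons_self with hin | hout
      · refine ⟨Nat.lor (listMask o) m, List.mem_append_right _ (List.mem_map_of_mem hm), fun i => ?_⟩
        rw [show Nat.lor (listMask o) m = listMask o ||| m from rfl, Nat.testBit_or, Bool.or_eq_true,
          testBit_listMask, hmi]
        constructor
        · rintro (hi | ⟨hp, o', ho', hi⟩)
          exacts [⟨hin i hi, o, List.mem_cons_self, hi⟩, ⟨hp, o', List.mem_cons_of_mem _ ho', hi⟩]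
        · rintro ⟨hp, o', ho', hi⟩
          rcases List.mem_cons.1 ho' with rfl | ho'
          exacts [Or.inl hi, Or.inr ⟨hp, o', ho', hi⟩]
      · refine ⟨m, List.mem_append_left _ hm, fun i => ?_⟩
        rw [hmi]
        constructor
        · rintro ⟨hp, o', ho', hi⟩
          exact ⟨hp, o', List.mem_cons_of_mem _ ho', hi⟩
        · rintro ⟨hp, o', ho', hi⟩
          rcases List.mem_cons.1 ho' with rfl | ho'
          exacts [absurd hp (hout i hi), ⟨hp, o', ho', hi⟩]
  obtain ⟨m, hm, hmi⟩ := build orbs hall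
  refine ⟨m, hm, Finset.ext fun x => ?_⟩
  rw [mem_setOf, hmi]
  refine ⟨fun hx => ⟨⟨x, hx, rfl⟩, hcov _ (idx x).isLt⟩, fun ⟨⟨y, hy, he⟩, _⟩ => ?_⟩
  rwa [← idx_inj.1 (Fin.ext he)]

/-! ### Lower bounds for orbits of sets -/

/-- Distinct images of the first mask, each reached from an earlier one. -/
def lowOk (c : OrbCert) (gens : List ℕ) : Bool :=
  gens.all inM24 && slotsOk 24 (c.tab 24) 0 c.orb && treeOk img gens 24 (c.tab 24) 1 c.tree &&
    (c.tree.length + 1 == c.orb.length) && (c.srt.length == c.orb.length) &&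
    c.srt.all (fun k => Nat.blt k c.orb.length) && sortedB (c.srt.map (getSlot 24 (c.tab 24))) &&
    c.orb.all (fun m => Nat.blt m 16777216)

theorem orb_mul_le {c : OrbCert} {gens : List ℕ} (h : lowOk c gens = true) {G : Subgroup P24}
    (hG : ∀ g ∈ gens, toPerm g ∈ G) :
    c.orb.length * Nat.card (setStab G (setOf c.root)) ≤ Nat.card G := by
  classical
  simp only [lowOk, Bool.and_eq_true, beq_iff_eq, List.all_eq_true, Nat.blt_eq] at h
  obtain ⟨⟨⟨⟨⟨⟨⟨hin, hs⟩, htree⟩, htl⟩, hsl⟩, hsk⟩, hsort⟩, hlt⟩ := h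
  have hslot : ∀ k, k < c.orb.length → getSlot 24 (c.tab 24) k = c.orb.getD k 0 := fun k hk => by
    have := slotsOk_spec _ _ hs k hk
    rw [Nat.zero_add] at this
    rw [this, List.getD_eq_getElem _ _ hk]
  have hcov : ∀ k, k < c.orb.length →
      ∃ σ ∈ G, σ • setOf c.root = setOf (getSlot 24 (c.tab 24) k) := by
    intro k
    induction k using Nat.strong_induction_on with
    | _ k ih =>
      intro hk
      cases k with
      | zero => exact ⟨1, G.one_mem, by rw [one_smul, hslot 0 hk]; rfl⟩
      | succ i =>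
        obtain ⟨j, g, hj, hg, he⟩ := treeOk_spec c.tree 1 htree i (by omega)
        obtain ⟨σ, hσ, hσe⟩ := ih j (by omega) (by omega)
        refine ⟨toPerm g * σ, G.mul_mem (hG g hg) hσ, ?_⟩
        rw [mul_smul, hσe, smul_setOf (valid_of_inM24 (hin g hg)), ← he, Nat.add_comm 1 i]
  choose σ hσ hσe using fun i : Fin c.srt.length =>
    hcov (c.srt.get i) (hsk _ (List.getElem_mem i.isLt))
  let f : Fin c.srt.length × setStab G (setOf c.root) → G := fun ic =>
    ⟨σ ic.1 * (ic.2 : P24), G.mul_mem (hσ _) ic.2.2.1⟩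
  have hpair : List.Pairwise (· < ·) (c.srt.map (getSlot 24 (c.tab 24))) := sortedB_pairwise hsort
  have hnd := hpair.imp (fun h => ne_of_lt h)
  have hf : Function.Injective f := by
    rintro ⟨i, s⟩ ⟨j, t⟩ e
    have e' : σ i * (s : P24) = σ j * (t : P24) := congrArg Subtype.val e
    have h1 := congrArg (· • setOf c.root) e'
    simp only [mul_smul] at h1
    rw [show (s : P24) • setOf c.root = setOf c.root from s.2.2,
      show (t : P24) • setOf c.root = setOf c.root from t.2.2, hσe, hσe] at h1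
    have hm : ∀ k : Fin c.srt.length, getSlot 24 (c.tab 24) (c.srt.get k) < 2 ^ 24 := fun k => by
      have hk := hsk _ (List.getElem_mem k.isLt)
      rw [List.get_eq_getElem, hslot _ hk, List.getD_eq_getElem _ _ hk]
      exact hlt _ (List.getElem_mem hk)
    have h2 := setOf_inj (hm i) (hm j) h1
    have hij : i = j := by
      refine Fin.ext ((List.Nodup.getElem_inj_iff hnd (hi := by simp) (hj := by simp)).1 ?_)
      simpa using h2
    subst hij
    rw [mul_right_inj] at e'
    exact Prod.ext rfl (Subtype.ext e')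
  have hc := Nat.card_le_card_of_injective f hf
  rwa [Nat.card_prod, Nat.card_eq_fintype_card, Fintype.card_fin, hsl] at hc

/-! ### Perfect subgroups -/

theorem eq_one_of_solvable_of_perfect {K : Type*} [Group K] (hK : commutator K = ⊤) {X : Type*}
    [Group X] [Group.IsSolvable X] (φ : K →* X) : ∀ k, φ k = 1 := by
  have hall : ∀ n, φ.range ≤ derivedSeries X n := by
    intro n
    induction n with
    | zero => exact le_top
    | succ n ih =>
      rw [derivedSeries_succ, MonoidHom.range_eq_map, ← hK, commutator_def, Subgroup.map_commutator,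
        ← MonoidHom.range_eq_map]
      exact Subgroup.commutator_mono ih ih
  obtain ⟨n, hn⟩ := Group.IsSolvable.solvable (G := X)
  intro k
  have := hall n ⟨k, rfl⟩
  rwa [hn, Subgroup.mem_bot] at this

/-- A perfect subgroup lies in every subgroup of index at most four of an overgroup. -/
theorem perfect_le {G H K : Subgroup P24} (hH : H ≤ G) (hKG : K ≤ G) (hK : commutator ↥K = ⊤)
    (hi : Nat.card G ≤ 4 * Nat.card H) : K ≤ H := by
  let H' := H.subgroupOf G
  have hidx : H'.index ≤ 4 := by
    have h := H'.index_mul_card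
    rw [Nat.card_congr (Subgroup.subgroupOfEquivOfLe hH).toEquiv] at h
    exact Nat.le_of_mul_le_mul_right (h.trans_le hi) Nat.card_pos
  haveI : Group.IsSolvable (Equiv.Perm (↥G ⧸ H')) := by
    haveI := Cfsg.Agent.S0282.isSolvable_perm_fin_four
    have hle : Nat.card (↥G ⧸ H') ≤ Nat.card (Fin 4) := by
      rw [Nat.card_eq_fintype_card (α := Fin 4), Fintype.card_fin]; exact hidx
    haveI := Fintype.ofFinite (↥G ⧸ H')
    obtain ⟨e⟩ : Nonempty ((↥G ⧸ H') ↪ Fin 4) := Function.Embedding.nonempty_of_card_le (by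
      simpa [Nat.card_eq_fintype_card] using hle)
    exact solvable_of_solvable_injective
      (f := Equiv.Perm.viaEmbeddingHom e) (Equiv.Perm.viaEmbeddingHom_injective e)
  intro k hk
  have h := eq_one_of_solvable_of_perfect hK
    ((MulAction.toPermHom ↥G (↥G ⧸ H')).comp (Subgroup.inclusion hKG)) ⟨k, hk⟩
  have h1 := Equiv.ext_iff.1 h ((1 : ↥G) : ↥G ⧸ H')
  rw [MonoidHom.comp_apply, MulAction.toPermHom_apply, MulAction.toPerm_apply, Equiv.Perm.one_apply,
    MulAction.Quotient.smul_coe, smul_eq_mul, mul_one, QuotientGroup.eq, mul_one] at h1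
  simpa [H', Subgroup.mem_subgroupOf] using h1

/-- Generators that are commutators of group elements give a perfect group. -/
theorem perfect_of_commutators {K : Subgroup P24} {S : Set P24} (hS : K = Subgroup.closure S)
    (h : ∀ x ∈ S, ∃ a ∈ K, ∃ b ∈ K, x = a * b * a⁻¹ * b⁻¹) : commutator ↥K = ⊤ := by
  rw [eq_top_iff]
  rintro ⟨x, hx⟩ -
  have key : K ≤ (commutator ↥K).map K.subtype := by
    conv_lhs => rw [hS]
    rw [Subgroup.closure_le]
    intro y hy
    obtain ⟨a, ha, b, hb, rfl⟩ := h y hy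
    exact ⟨⟨a, ha⟩ * ⟨b, hb⟩ * ⟨a, ha⟩⁻¹ * ⟨b, hb⟩⁻¹,
      commutator_def K ▸ Subgroup.commutator_mem_commutator (Subgroup.mem_top _) (Subgroup.mem_top _),
      by simp⟩
  obtain ⟨u, hu, e⟩ := key hx
  exact (Subtype.ext e : u = ⟨x, hx⟩) ▸ hu

end

end Cfsg.Agent.Golay24.Index
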