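import Cfsg.Agent.Lib.Golay.Index.Core
import Cfsg.Agent.Lib.Golay.SylowCrit

/-!
Subgroups containing a Sylow 2-subgroup of a Mathieu group: orbits and order bounds.
-/

set_option autoImplicit false

namespace Cfsg.Agent.Golay24.Index

noncomputable section

open Cfsg
open scoped Pointwise

attribute [local irreducible] weightList codeList

theorem setStab_eq_of_card {G H : Subgroup P24} {U : Finset GolayPt} (hle : H ≤ setStab G U)
    (hc : Nat.card (setStab G U) ≤ Nat.card H) : H = setStab G U :=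
  Subgroup.eq_of_le_of_card_ge hle hc

theorem conjBy_setStab' (g : P24) (G : Subgroup P24) (U : Finset GolayPt) :
    conjBy g (setStab G U) = setStab (conjBy g G) (g • U) := by
  ext x
  rw [mem_conjBy, Subgroup.mem_inf, Subgroup.mem_inf, mem_conjBy, MulAction.mem_stabilizer_iff,
    MulAction.mem_stabilizer_iff, mul_smul, mul_smul, inv_smul_eq_iff]

theorem conjBy_eq_self {g : P24} {G : Subgroup P24} (hg : g ∈ G) : conjBy g G = G :=
  Subgroup.eq_of_le_of_card_ge (conjBy_le hg le_rfl) (card_conjBy g G).ge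

theorem eq_conjBy_of_conjBy_eq {g : P24} {H K : Subgroup P24} (h : conjBy g H = K) :
    H = conjBy g⁻¹ K := by
  rw [← h, conjBy_conjBy, inv_mul_cancel, conjBy_one]

theorem exists_sylow_le {c : SylCert} {G : Subgroup P24} (h : SylHyp c G) {H : Subgroup P24}
    (hH : H ≤ G) {n : ℕ} (hn : n * Nat.card H = Nat.card G) (hodd : ¬ 2 ∣ n) :
    ∃ g ∈ G, c.grp ≤ conjBy g H := by
  haveI : Fact (Nat.Prime 2) := ⟨Nat.prime_two⟩
  exact exists_conj_le 2 hH (c.grp_le h.grp h.mem) h.isPGroup hn hodd

theorem syl_gen_mem (c : SylCert) {g : ℕ} (hg : g ∈ c.gens) : toPerm g ∈ c.grp :=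
  Subgroup.subset_closure ⟨g, hg, rfl⟩

/-- The orbit of a point under a group containing the given elements. -/
theorem hOrb_mem_unions {gens : List ℕ} {orbs : List (List ℕ)} (h : orbsOk gens orbs = true)
    {H : Subgroup P24} (hg : ∀ g ∈ gens, toPerm g ∈ H) (a : GolayPt) :
    ∃ m ∈ unionMasks orbs, hOrb H a = setOf m :=
  invariant_mem_unions h fun g hgm => smul_hOrb (hg g hgm) a

theorem hOrb_testBit {H : Subgroup P24} {a : GolayPt} {m : ℕ} (h : hOrb H a = setOf m) :
    m.testBit (idx a) = true := mem_setOf.1 (h ▸ self_mem_hOrb H a)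

theorem hOrb_not_testBit {H : Subgroup P24} {a b : GolayPt} {m : ℕ} (h : hOrb H a = setOf m)
    (hb : ∀ g ∈ H, g b = b) (hab : a ≠ b) : m.testBit (idx b) = false := by
  rw [Bool.eq_false_iff]
  intro e
  have hmem : b ∈ hOrb H a := h ▸ mem_setOf.2 e
  obtain ⟨g, hg, he⟩ := mem_hOrb.1 hmem
  exact hab (g.injective (he.trans (hb g hg).symm))

theorem card_le_of_orb {c : OrbCert} {gens : List ℕ} (h : lowOk c gens = true) {G H : Subgroup P24}
    (hG : ∀ g ∈ gens, toPerm g ∈ G) (hle : H ≤ setStab G (setOf c.root)) :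
    c.orb.length * Nat.card H ≤ Nat.card G :=
  (Nat.mul_le_mul_left _ (Subgroup.card_le_of_le hle)).trans (orb_mul_le h hG)

theorem no_orb {c : OrbCert} {gens : List ℕ} (h : lowOk c gens = true) {G H : Subgroup P24}
    (hG : ∀ g ∈ gens, toPerm g ∈ G) (hle : H ≤ setStab G (setOf c.root)) {n : ℕ}
    (hn : n * Nat.card H = Nat.card G) (hlt : n < c.orb.length) : False :=
  absurd ((card_le_of_orb h hG hle).trans_eq hn.symm)
    (not_le_of_gt ((Nat.mul_lt_mul_right Nat.card_pos).2 hlt))

theorem eq_of_orb {c : OrbCert} {gens : List ℕ} (h : lowOk c gens = true) {G H : Subgroup P24}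
    (hG : ∀ g ∈ gens, toPerm g ∈ G) (hle : H ≤ setStab G (setOf c.root)) {n : ℕ}
    (hn : n * Nat.card H = Nat.card G) (hlen : c.orb.length = n) : H = setStab G (setOf c.root) := by
  have hpos : 0 < n := by
    rcases Nat.eq_zero_or_pos n with e | e
    · rw [e, Nat.zero_mul] at hn; exact absurd hn.symm Nat.card_pos.ne'
    · exact e
  refine setStab_eq_of_card hle (Nat.le_of_mul_le_mul_left ?_ hpos)
  rw [hn, ← hlen]
  exact orb_mul_le h hG

end

end Cfsg.Agent.Golay24.Index
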