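import Cfsg.Agent.Lib.Golay.Index.InvBound
import Cfsg.Agent.Lib.Golay.Index.OddTools
import Cfsg.Agent.Lib.Golay.Gens

/-!
Indices whose subgroups contain an element of order eleven: 12, 56, 210 in M22, 276 in M23 and M24.
-/

set_option autoImplicit false

namespace Cfsg.Agent.Golay24.Index

noncomputable section

open Cfsg
open scoped Pointwise

attribute [local irreducible] weightList codeList

theorem exists_elev_le {G H : Subgroup P24} (hG : toPerm elevC ∈ G) (hH : H ≤ G) {n : ℕ}
    (hn : n * Nat.card H = Nat.card G) (hnd : ¬ 11 ∣ n) : ∃ g ∈ G, toPerm elevC ∈ conjBy g H := by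
  haveI : Fact (Nat.Prime 11) := ⟨by norm_num⟩
  obtain ⟨g, hg, hT⟩ := exists_conj_le 11 hH (T := Subgroup.zpowers (toPerm elevC))
    (Subgroup.zpowers_le.2 hG)
    (IsPGroup.of_card (n := 1) (by rw [Nat.card_zpowers, orderOf_elevC, pow_one])) hn hnd
  exact ⟨g, hg, hT (Subgroup.mem_zpowers _)⟩

theorem m22_small_index {H : Subgroup P24} (hH : H ≤ Spor.M22) {n : ℕ}
    (hn : n * Nat.card H = 443520) (hcase : n = 12 ∨ n = 56 ∨ n = 210) : False := by
  obtain ⟨g, hg, hc⟩ := exists_elev_le elevC_props.2.1 hH (hn.trans card_M22.symm) (by omega)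
  have hcard : Nat.card (conjBy g H) = Nat.card H := card_conjBy g H
  have hC : Nat.card H = 36960 ∨ Nat.card H = 7920 ∨ Nat.card H = 2112 := by
    rcases hcase with rfl | rfl | rfl <;> omega
  rcases eleven_even_bound (conjBy_le hg hH) hc (by rw [hcard]; omega) with h | h
  · rw [h, card_M22] at hcard; omega
  · omega

theorem eleven_orbs_ok : (orbsOk [elevC] orbsEleven &&
    ((unionMasks orbsEleven).filter (fun m => m.testBit 0 && !m.testBit 23)).all
      (fun m => [1, 7244827, 1143781].contains m || (pop24 m == 23)) &&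
    ((unionMasks orbsEleven).filter (fun m => m.testBit 23)).all
      (fun m => [8388608, 8388609, 15633434, 9532388, 16777215].contains m ||
        [13, 23].contains (pop24 m))) = true := by decide +kernel

theorem low_eleven_ok : (lowOk low23A m23Cert.gens && (low23A.root == 7244827) &&
    (low23A.orb.length == 277) &&
    lowOk low23B m23Cert.gens && (low23B.root == 1143781) && (low23B.orb.length == 277) &&
    lowOk low24A m24Gens && (low24A.root == 15633434) && (low24A.orb.length == 277) &&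
    lowOk low24B m24Gens && (low24B.root == 9532388) && (low24B.orb.length == 277) &&
    lowOk low24Duad m24Gens && (low24Duad.root == 8388609) && (low24Duad.orb.length == 276) &&
    m24Gens.all inM24) = true := by
  decide +kernel

theorem m23_276 {H : Subgroup P24} (hH : H ≤ Spor.M23) (hn : 276 * Nat.card H = 10200960) :
    False := by
  obtain ⟨g, hg, hc⟩ := exists_elev_le elevC_props.2.1.1 hH (hn.trans card_M23.symm) (by norm_num)
  set H' := conjBy g H with hH'
  have hH'le : H' ≤ Spor.M23 := conjBy_le hg hH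
  have hn' : 276 * Nat.card H' = Nat.card Spor.M23 := by rw [hH', card_conjBy, hn, card_M23]
  have hok := eleven_orbs_ok
  simp only [Bool.and_eq_true, List.all_eq_true, Bool.or_eq_true, List.contains_iff_mem,
    beq_iff_eq] at hok
  obtain ⟨m, hm, hU⟩ := hOrb_mem_unions (H := H') hok.1.1
    (fun t ht => by rw [List.mem_singleton] at ht; exact ht ▸ hc) (some 0 : GolayPt)
  have h0 : m.testBit 0 = true := hOrb_testBit hU
  have hnone : m.testBit 23 = false :=
    hOrb_not_testBit hU (b := none) (fun t ht => (hH'le ht).2) (by decide)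
  have hmem := hok.1.2 m (List.mem_filter.2 ⟨hm, by
    rw [Bool.and_eq_true, Bool.not_eq_true']; exact ⟨h0, hnone⟩⟩)
  have hle := le_setStab_hOrb hH'le (some 0 : GolayPt)
  have hmul := card_hOrb_mul H' (some 0 : GolayPt)
  rw [hU] at hle hmul
  rw [card_setOf] at hmul
  have hl := low_eleven_ok
  simp only [Bool.and_eq_true, beq_iff_eq] at hl
  obtain ⟨⟨⟨⟨⟨⟨⟨⟨⟨⟨⟨⟨⟨⟨⟨oA, rA⟩, lA⟩, oB⟩, rB⟩, lB⟩, -⟩, -⟩, -⟩, -⟩, -⟩, -⟩, -⟩, -⟩, -⟩, -⟩ := hl
  have hcard : 276 * Nat.card H' = 10200960 := by rw [hn', card_M23]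
  rcases hmem with hmem | hmem
  swap
  · rw [hmem] at hmul; omega
  simp only [List.mem_cons, List.not_mem_nil, or_false] at hmem
  rcases hmem with rfl | rfl | rfl
  · rw [show pop24 1 = 1 by decide +kernel, Nat.one_mul] at hmul
    have hH22 : H' ≤ Spor.M22 := by
      have h : H' ⊓ MulAction.stabilizer P24 (some 0 : GolayPt) = H' :=
        Subgroup.eq_of_le_of_card_ge inf_le_left (le_of_eq hmul.symm)
      intro x hx
      exact ⟨hH'le hx, (h.symm ▸ hx : x ∈ H' ⊓ _).2⟩
    exact m22_small_index hH22 (n := 12) (by omega) (Or.inl rfl)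
  · exact no_orb oA (fun t ht => m23_gens ht) (rA.symm ▸ hle) hn' (by omega)
  · exact no_orb oB (fun t ht => m23_gens ht) (rB.symm ▸ hle) hn' (by omega)

theorem m24Gens_mem {t : ℕ} (ht : t ∈ m24Gens) : toPerm t ∈ M24 := by
  have h := low_eleven_ok
  simp only [Bool.and_eq_true, List.all_eq_true] at h
  exact toPerm_mem_M24 (h.2 t ht)

theorem m24_276 {H : Subgroup P24} (hH : H ≤ M24) (hn : 276 * Nat.card H = 244823040) :
    ∃ s : Finset GolayPt, s.card = 2 ∧ H = setStab M24 s := by
  obtain ⟨g, hg, hc⟩ := exists_elev_le elevC_props.2.1.1.1 hH (hn.trans card_M24.symm) (by norm_num)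
  set H' := conjBy g H with hH'
  have hH'le : H' ≤ M24 := conjBy_le hg hH
  have hn' : 276 * Nat.card H' = Nat.card M24 := by rw [hH', card_conjBy, hn, card_M24]
  have hok := eleven_orbs_ok
  simp only [Bool.and_eq_true, List.all_eq_true, Bool.or_eq_true, List.contains_iff_mem,
    beq_iff_eq] at hok
  obtain ⟨m, hm, hU⟩ := hOrb_mem_unions (H := H') hok.1.1
    (fun t ht => by rw [List.mem_singleton] at ht; exact ht ▸ hc) (none : GolayPt)
  have hmem := hok.2 m (List.mem_filter.2 ⟨hm, hOrb_testBit hU⟩)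
  have hle := le_setStab_hOrb hH'le (none : GolayPt)
  have hmul := card_hOrb_mul H' (none : GolayPt)
  rw [hU] at hle hmul
  rw [card_setOf] at hmul
  have hl := low_eleven_ok
  simp only [Bool.and_eq_true, beq_iff_eq] at hl
  obtain ⟨⟨⟨⟨⟨⟨⟨⟨⟨⟨-, oA⟩, rA⟩, lA⟩, oB⟩, rB⟩, lB⟩, oD⟩, rD⟩, lD⟩, -⟩ := hl
  have hgens : ∀ t ∈ m24Gens, toPerm t ∈ M24 := fun t ht => m24Gens_mem ht
  have hcard : 276 * Nat.card H' = 244823040 := by rw [hn', card_M24]
  rcases hmem with hmem | hmem
  swap
  · exfalso
    simp only [List.mem_cons, List.not_mem_nil, or_false] at hmem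
    rcases hmem with e | e <;> rw [e] at hmul <;> omega
  simp only [List.mem_cons, List.not_mem_nil, or_false] at hmem
  rcases hmem with rfl | rfl | rfl | rfl | rfl
  · exfalso
    rw [show pop24 8388608 = 1 by decide +kernel, Nat.one_mul] at hmul
    have h23 : H' ≤ Spor.M23 := by
      have h : H' ⊓ MulAction.stabilizer P24 (none : GolayPt) = H' :=
        Subgroup.eq_of_le_of_card_ge inf_le_left (le_of_eq hmul.symm)
      intro x hx
      exact ⟨hH'le hx, (h.symm ▸ hx : x ∈ H' ⊓ _).2⟩
    have hd := Subgroup.card_dvd_of_le h23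
    rw [card_M23] at hd
    obtain ⟨k, hk⟩ := hd
    rw [show Nat.card H' = 887040 by omega] at hk
    omega
  · refine ⟨g⁻¹ • setOf 8388609, by rw [Finset.card_smul_finset, card_setOf]; decide +kernel, ?_⟩
    have e := eq_of_orb oD hgens (rD.symm ▸ hle) hn' (by omega)
    rw [rD] at e
    rw [eq_conjBy_of_conjBy_eq e, conjBy_setStab (M24.inv_mem hg)]
  · exact (no_orb oA hgens (rA.symm ▸ hle) hn' (by omega)).elim
  · exact (no_orb oB hgens (rB.symm ▸ hle) hn' (by omega)).elim
  · exfalso
    rw [show pop24 16777215 = 24 by decide +kernel] at hmul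
    refine m23_276 (H := H' ⊓ MulAction.stabilizer P24 (none : GolayPt))
      (fun x hx => ⟨hH'le hx.1, hx.2⟩) ?_
    omega

end

end Cfsg.Agent.Golay24.Index
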