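import Cfsg.Agent.Lib.Golay.Index.Core
import Cfsg.Agent.Lib.Golay.Index.InvData
import Cfsg.Agent.Lib.Golay.Index.ElevenData
import Cfsg.Agent.Lib.Golay.SylowM22
import Cfsg.Agent.Lib.Golay.Suborbits.Hexad

/-!
A proper subgroup of even order of M22 with an element of order eleven has order at most 1320.
-/

set_option autoImplicit false

namespace Cfsg.Agent.Golay24.Index

noncomputable section

open Cfsg
open scoped Pointwise

attribute [local irreducible] weightList codeList

/-- The packed table of all involutions. -/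
def invTab : ℕ := packSlots 120 inv22

theorem inv22_table_ok : (slotsOk 120 invTab 0 inv22 && (inv22.length == 1155) &&
    inv22.all (fun t => validP t && (compP t idP == t) && isIdP (compP t t)) &&
    (inv22Rows.length == m22Cert.gens.length) &&
    (m22Cert.gens.zip inv22Rows).all (fun gr => (gr.2.length == 1155) &&
      (inv22.zip gr.2).all fun tk => Nat.blt tk.2 1155 &&
        (compP gr.1 tk.1 == compP (getSlot 120 invTab tk.2) gr.1)) &&
    m22Syl.elems.all (fun p => isIdP p || !isIdP (compP p p) || inv22.contains p)) = true := by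
  decide +kernel

theorem inv22_assign_ok : ((inv22Asg.length == 1155) &&
    (inv22.zip inv22Asg).all (fun ta => Nat.blt ta.2.1 55 && Nat.blt ta.2.2 21 &&
      (compP (elevNorm.getD ta.2.1 0) (inv22Reps.getD ta.2.2 0) ==
        compP ta.1 (elevNorm.getD ta.2.1 0))) &&
    (elevNorm.length == 55) && (elevNormPow.length == 55) &&
    (elevNorm.zip elevNormPow).all (fun nk => inM24 nk.1 && (app nk.1 23 == 23) &&
      (app nk.1 0 == 0) && Nat.blt 0 nk.2 &&
      (compP nk.1 elevC == compP (powP elevC nk.2) nk.1) &&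
      invSmall.all (fun u => invSmall.any fun u' => compP nk.1 u' == compP u nk.1)) &&
    inM24 elevC && (app elevC 23 == 23) && (app elevC 0 == 0) && isIdP (powP elevC 11) &&
    (inv22Reps.length == 21) && (inv22Progs.length == 21) &&
    invSmall.all (fun u => validP u && (compP u idP == u)) &&
    (inv22Reps.zip inv22Progs).all (fun rp => validP rp.1 && slpOk 2 rp.2.2.1 &&
      rp.2.2.2.all (fun k => Nat.blt k (2 + rp.2.2.1.length)) &&
      (rp.2.2.2.map (fun k => (slp [elevC, rp.1] rp.2.2.1).getD k 0) ==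
        if rp.2.1 then invSmall else m22Cert.gens) &&
      (!rp.2.1 || invSmall.contains rp.1))) = true := by
  decide +kernel

theorem elevC_props : validP elevC = true ∧ toPerm elevC ∈ Spor.M22 ∧ toPerm elevC ^ 11 = 1 := by
  have h := inv22_assign_ok
  simp only [Bool.and_eq_true, beq_iff_eq] at h
  obtain ⟨⟨⟨⟨⟨⟨⟨⟨-, hM⟩, h23⟩, h0⟩, hid⟩, -⟩, -⟩, -⟩, -⟩ := h
  refine ⟨valid_of_inM24 hM, m22SylHyp.mem _ ?_, ?_⟩
  · simp only [m22SylHyp, Bool.and_eq_true, beq_iff_eq]; exact ⟨⟨hM, h23⟩, h0⟩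
  · obtain ⟨hv, e⟩ := toPerm_powP (valid_of_inM24 hM) 10
    rw [← e, toPerm_eq_one_of_isIdP hv hid]

theorem orderOf_elevC : orderOf (toPerm elevC) = 11 := by
  haveI : Fact (Nat.Prime 11) := ⟨by norm_num⟩
  refine orderOf_eq_prime elevC_props.2.2 fun e => ?_
  have h : app elevC 1 ≠ 1 := by decide +kernel
  have := congrArg (fun σ : P24 => (idx (σ (pt ⟨1, by norm_num⟩)) : ℕ)) e
  simp [idx_toPerm elevC_props.1, idx_pt] at this
  exact h this

theorem isIdP_iff {g : ℕ} (hv : validP g = true) : isIdP g = true ↔ toPerm g = 1 := by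
  refine ⟨toPerm_eq_one_of_isIdP hv, fun e => ?_⟩
  simp only [isIdP, List.all_eq_true, List.mem_range, beq_iff_eq]
  intro i hi
  have := congrArg (fun σ : P24 => (idx (σ (pt ⟨i, hi⟩)) : ℕ)) e
  simpa [idx_toPerm hv, idx_pt] using this

theorem inv22_slot {k : ℕ} (hk : k < 1155) : getSlot 120 invTab k ∈ inv22 := by
  have h := inv22_table_ok
  simp only [Bool.and_eq_true, beq_iff_eq] at h
  obtain ⟨⟨⟨⟨⟨hs, hl⟩, -⟩, -⟩, -⟩, -⟩ := h
  have := slotsOk_spec _ _ hs k (by omega)
  rw [Nat.zero_add] at this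
  rw [this]; exact List.getElem_mem _

theorem inv22_valid {t : ℕ} (ht : t ∈ inv22) :
    validP t = true ∧ compP t idP = t ∧ toPerm t * toPerm t = 1 := by
  have h := inv22_table_ok
  simp only [Bool.and_eq_true, List.all_eq_true, beq_iff_eq] at h
  obtain ⟨⟨hv, hc⟩, hi⟩ := h.1.1.1.2 t ht
  exact ⟨hv, hc, by rw [← toPerm_compP hv hv, toPerm_eq_one_of_isIdP (validP_compP hv hv) hi]⟩

theorem m22Cert_inM24 {g : ℕ} (hg : g ∈ m22Cert.gens) : inM24 g = true := by
  have h := m22Cert_ok
  simp only [Bool.and_eq_true] at h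
  have h' := h.1.1.1.1
  simp only [GenCert.ok, Bool.and_eq_true] at h'
  exact List.all_eq_true.1 h'.1.1.1 g hg

theorem M22_permutes_inv {k : P24} (hk : k ∈ Spor.M22) :
    ∀ t ∈ inv22, ∃ t' ∈ inv22, k * toPerm t = toPerm t' * k := by
  rw [← m22_grp, GenCert.grp, ← SetLike.mem_coe, ← Subgroup.coe_toSubmonoid,
    Subgroup.closure_toSubmonoid_of_finite, SetLike.mem_coe] at hk
  induction hk using Submonoid.closure_induction with
  | mem x hx =>
    obtain ⟨g, hg, rfl⟩ := hx
    intro t ht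
    have h := inv22_table_ok
    simp only [Bool.and_eq_true, List.all_eq_true, beq_iff_eq, Nat.blt_eq] at h
    obtain ⟨⟨⟨⟨⟨-, hl⟩, -⟩, hrl⟩, hrows⟩, -⟩ := h
    obtain ⟨j, hj, rfl⟩ := List.mem_iff_getElem.1 hg
    obtain ⟨i, hi, rfl⟩ := List.mem_iff_getElem.1 ht
    obtain ⟨hlen, hrow⟩ := hrows (m22Cert.gens[j], inv22Rows[j]'(by omega))
      (List.mem_iff_getElem.2 ⟨j, by rw [List.length_zip]; omega, List.getElem_zip⟩)
    have hlen' : (inv22Rows[j]'(by omega)).length = 1155 := hlen
    obtain ⟨hk', he⟩ := hrow (inv22[i], (inv22Rows[j]'(by omega))[i]'(by omega))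
      (List.mem_iff_getElem.2 ⟨i, by rw [List.length_zip]; omega, List.getElem_zip⟩)
    have hv := valid_of_inM24 (m22Cert_inM24 hg)
    refine ⟨_, inv22_slot hk', ?_⟩
    rw [← toPerm_compP hv (inv22_valid ht).1, ← toPerm_compP (inv22_valid (inv22_slot hk')).1 hv, he]
  | one => exact fun t ht => ⟨t, ht, by simp⟩
  | mul x y _ _ hx hy =>
    intro t ht
    obtain ⟨u, hu, e⟩ := hy t ht
    obtain ⟨u', hu', e'⟩ := hx u hu
    exact ⟨u', hu', by rw [mul_assoc, e, ← mul_assoc, e', mul_assoc]⟩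

/-- Every involution of M22 is listed. -/
theorem involution_listed {σ : P24} (hσ : σ ∈ Spor.M22) (h2 : σ * σ = 1) (hne : σ ≠ 1) :
    ∃ t ∈ inv22, toPerm t = σ := by
  haveI : Fact (Nat.Prime 2) := ⟨Nat.prime_two⟩
  let x : Spor.M22 := ⟨σ, hσ⟩
  have hx : orderOf x = 2 := orderOf_eq_prime (by rw [pow_two]; exact Subtype.ext h2)
    fun e => hne (congrArg Subtype.val e)
  have hP : IsPGroup 2 (Subgroup.zpowers x) :=
    IsPGroup.of_card (n := 1) (by rw [Nat.card_zpowers, hx, pow_one])
  obtain ⟨S, hS⟩ := hP.exists_le_sylow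
  obtain ⟨k, hk⟩ := MulAction.exists_smul_eq Spor.M22 S m22SylHyp.sylow
  have hmem : (k * x * k⁻¹ : Spor.M22) ∈ (m22SylHyp.sylow : Subgroup Spor.M22) := by
    rw [← hk, Sylow.coe_subgroup_smul, Subgroup.mem_pointwise_smul_iff_inv_smul_mem]
    simpa [MulAut.smul_def, mul_assoc] using hS (Subgroup.mem_zpowers _)
  rw [m22SylHyp.mem_sylow, m22Syl.mem_grp_iff m22SylHyp.grp] at hmem
  obtain ⟨p, hp, hpe⟩ := hmem
  simp only [Subgroup.coe_mul, Subgroup.coe_inv] at hpe
  have hv := (m22Syl.valid m22SylHyp.grp hp).1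
  have h := inv22_table_ok
  simp only [Bool.and_eq_true, List.all_eq_true, Bool.or_eq_true, Bool.not_eq_true',
    List.contains_iff_mem] at h
  have hp1 : toPerm p ≠ 1 := fun e => by
    rw [e] at hpe
    exact hne (congrArg Subtype.val ((by simpa [mul_assoc] using
      (congrArg (fun z => (k : P24)⁻¹ * z * (k : P24)) hpe).symm) : x = 1))
  have hp2 : isIdP (compP p p) = true := by
    rw [isIdP_iff (validP_compP hv hv), toPerm_compP hv hv, hpe]
    calc (k : P24) * σ * (k : P24)⁻¹ * ((k : P24) * σ * (k : P24)⁻¹) = k * (σ * σ) * (k : P24)⁻¹ := by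
          group
      _ = 1 := by rw [h2, mul_one, mul_inv_cancel]
  rcases h.2 p hp with (hid | hnot) | hin
  · exact absurd (toPerm_eq_one_of_isIdP hv hid) hp1
  · rw [hp2] at hnot; exact absurd hnot (by simp)
  obtain ⟨t', ht', e⟩ := M22_permutes_inv (Spor.M22.inv_mem k.2) p hin
  refine ⟨t', ht', ?_⟩
  have e2 : toPerm t' = (k : P24)⁻¹ * toPerm p * (k : P24) := by
    rw [e, mul_assoc, inv_mul_cancel, mul_one]
  rw [e2, hpe]
  show (k : P24)⁻¹ * ((k : P24) * σ * (k : P24)⁻¹) * (k : P24) = σ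
  group

/-- The small set as permutations. -/
def smallSet : Set P24 := toPerm '' {u | u ∈ invSmall}

/-- A single involution of the subgroup: either the whole of M22 is generated, or the involution
is small and the small set is contained. -/
theorem gen_or_small {H : Subgroup P24} (hH : H ≤ Spor.M22) (hc : toPerm elevC ∈ H) {σ : P24}
    (hσH : σ ∈ H) (h2 : σ * σ = 1) (hne : σ ≠ 1) :
    H = Spor.M22 ∨ (σ ∈ smallSet ∧ smallSet ⊆ (H : Set P24)) := by
  obtain ⟨t, ht, rfl⟩ := involution_listed (hH hσH) h2 hne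
  have h := inv22_assign_ok
  simp only [Bool.and_eq_true, List.all_eq_true, beq_iff_eq, Nat.blt_eq] at h
  obtain ⟨⟨⟨⟨⟨⟨⟨⟨⟨⟨⟨⟨hla, hasg⟩, hln⟩, hlp⟩, hnorm⟩, hM⟩, h23⟩, h0⟩, -⟩, hlr⟩, hlpr⟩, hsv⟩, hprog⟩ := h
  obtain ⟨i, hi, rfl⟩ := List.mem_iff_getElem.1 ht
  have hl : inv22.length = 1155 := by
    have h := inv22_table_ok
    simp only [Bool.and_eq_true, beq_iff_eq] at h
    exact h.1.1.1.1.2
  obtain ⟨⟨hn55, hr21⟩, he⟩ := hasg (inv22[i], inv22Asg[i]'(by omega))
    (List.mem_iff_getElem.2 ⟨i, by rw [List.length_zip]; omega, List.getElem_zip⟩)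
  simp only at hn55 hr21 he
  set a := (inv22Asg[i]'(by omega)).1
  set b := (inv22Asg[i]'(by omega)).2
  rw [List.getD_eq_getElem elevNorm _ (show a < elevNorm.length by omega),
    List.getD_eq_getElem inv22Reps _ (show b < inv22Reps.length by omega)] at he
  set n := elevNorm[a]'(by omega) with hndef
  set r := inv22Reps[b]'(by omega) with hrdef
  obtain ⟨⟨⟨⟨⟨hnM, hn23⟩, hn0⟩, hkpos⟩, hnc⟩, hnI⟩ := hnorm (n, elevNormPow[a]'(by omega))
    (List.mem_iff_getElem.2 ⟨a, by rw [List.length_zip]; omega, List.getElem_zip⟩)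
  simp only at hnM hn23 hn0 hkpos hnc hnI
  obtain ⟨⟨⟨⟨hrv, hslp⟩, hix⟩, hout⟩, hsmall⟩ := hprog (r, inv22Progs[b]'(by omega))
    (List.mem_iff_getElem.2 ⟨b, by rw [List.length_zip]; omega, List.getElem_zip⟩)
  simp only at hrv hslp hix hout hsmall
  set prog := inv22Progs[b]'(by omega)
  have hnv := valid_of_inM24 hnM
  have hnM22 : toPerm n ∈ Spor.M22 := m22SylHyp.mem _ (by
    simp only [m22SylHyp, Bool.and_eq_true, beq_iff_eq]; exact ⟨⟨hnM, hn23⟩, hn0⟩)
  let H' := conjBy (toPerm n)⁻¹ H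
  have hmem : ∀ x, x ∈ H' ↔ toPerm n * x * (toPerm n)⁻¹ ∈ H := fun x => by
    rw [mem_conjBy, inv_inv]
  have hcv := elevC_props.1
  have hc' : toPerm elevC ∈ H' := by
    rw [hmem]
    obtain ⟨m, hm⟩ : ∃ m, elevNormPow[a]'(by omega) = m + 1 := ⟨_, (Nat.succ_pred_eq_of_pos hkpos).symm⟩
    obtain ⟨hpv, hpe⟩ := toPerm_powP hcv m
    rw [hm] at hnc
    rw [← toPerm_compP hnv hcv, hnc, toPerm_compP hpv hnv, mul_inv_cancel_right, hpe]
    exact H.pow_mem hc _
  have hr' : toPerm r ∈ H' := by
    rw [hmem, ← toPerm_compP hnv hrv, he, toPerm_compP (inv22_valid ht).1 hnv, mul_inv_cancel_right]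
    exact hσH
  have houts : ∀ x ∈ prog.2.2.map (fun k => (slp [elevC, r] prog.2.1).getD k 0), toPerm x ∈ H' := by
    intro x hx
    obtain ⟨k, hk, rfl⟩ := List.mem_map.1 hx
    have hk' : k < (slp [elevC, r] prog.2.1).length := by
      rw [slp_length]; simpa using hix k hk
    rw [List.getD_eq_getElem _ _ hk']
    refine (slp_mem (K := H') prog.2.1 [elevC, r] (by simpa using hslp) (fun p hp => ?_) _
      (List.getElem_mem hk')).2
    simp only [List.mem_cons, List.not_mem_nil, or_false] at hp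
    rcases hp with rfl | rfl
    exacts [⟨hcv, hc'⟩, ⟨hrv, hr'⟩]
  rw [hout] at houts
  by_cases hs : prog.1 = true
  · rw [if_pos hs] at houts
    right
    simp only [hs, Bool.not_true, Bool.false_eq_true, false_or, Bool.or_eq_true,
      List.contains_iff_mem] at hsmall
    have hsub : smallSet ⊆ (H : Set P24) := by
      rintro _ ⟨u, hu, rfl⟩
      obtain ⟨u', hu', e⟩ := List.any_eq_true.1 (hnI u hu)
      rw [beq_iff_eq] at e
      have h1 := (hmem _).1 (houts u' hu')
      have hu'v := (hsv u' hu').1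
      have huv := (hsv u hu).1
      rwa [← toPerm_compP hnv hu'v, e, toPerm_compP huv hnv, mul_inv_cancel_right] at h1
    refine ⟨?_, hsub⟩
    -- the involution is the image of a small representative
    have hfin : (fun u => toPerm n * u * (toPerm n)⁻¹) '' smallSet = smallSet := by
      symm
      refine Set.eq_of_subset_of_ncard_le ?_ ?_ (Set.toFinite _)
      · rintro _ ⟨u, hu, rfl⟩
        obtain ⟨u', hu', e⟩ := List.any_eq_true.1 (hnI u hu)
        rw [beq_iff_eq] at e
        have hu'v := (hsv u' hu').1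
        have huv := (hsv u hu).1
        refine ⟨toPerm u', ⟨u', hu', rfl⟩, ?_⟩
        show toPerm n * toPerm u' * (toPerm n)⁻¹ = toPerm u
        rw [← toPerm_compP hnv hu'v, e, toPerm_compP huv hnv, mul_inv_cancel_right]
      · exact Set.ncard_image_le (Set.toFinite _)
    rw [← hfin]
    refine ⟨toPerm r, ⟨r, hsmall, rfl⟩, ?_⟩
    show toPerm n * toPerm r * (toPerm n)⁻¹ = toPerm inv22[i]
    rw [← toPerm_compP hnv hrv, he, toPerm_compP (inv22_valid ht).1 hnv, mul_inv_cancel_right]
  · rw [if_neg hs] at houts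
    left
    have hle : Spor.M22 ≤ H' := by
      rw [← m22_grp, GenCert.grp, Subgroup.closure_le]
      rintro _ ⟨g, hg, rfl⟩
      exact houts g hg
    refine le_antisymm hH fun x hx => ?_
    have := (hmem _).1 (hle (Spor.M22.mul_mem (Spor.M22.mul_mem (Spor.M22.inv_mem hnM22) hx) hnM22))
    simpa [mul_assoc] using this

theorem compP_idP_self {p q : ℕ} (_ : validP p = true) (_ : validP q = true) :
    compP (compP p q) idP = compP p q := by
  have hid : ∀ n < 24, app idP n = n := by decide +kernel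
  have key : ∀ n ≤ 24, compTo (compP p q) idP n = compTo p q n := by
    intro n
    induction n with
    | zero => intro _; rfl
    | succ n ih =>
      intro hn
      show Nat.lor (Nat.shiftLeft (app (compP p q) (app idP n)) (5 * n)) (compTo (compP p q) idP n) =
        Nat.lor (Nat.shiftLeft (app p (app q n)) (5 * n)) (compTo p q n)
      rw [hid n (by omega), app_compP p q (by omega : n < 24), ih (by omega)]
  unfold compP
  exact key 24 le_rfl

/-- The triples of small involutions with prescribed relations. -/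
def smallTriples : List (ℕ × ℕ × ℕ) :=
  invSmall.flatMap fun t => (invSmall.filter fun u => !(t == u) && isIdP (compP (compP t u) (compP t u))).flatMap
    fun u => (invSmall.filter fun v => !(t == v) && isIdP (powP (compP t v) 5) &&
      isIdP (powP (compP u v) 6) && !isIdP (powP (compP u v) 3) && !isIdP (powP (compP u v) 2)).map
    fun v => (t, u, v)

/-- Three small involutions generating the element of order eleven. -/
def baseTriple : ℕ × ℕ × ℕ := (invSmall.getD 0 0, invSmall.getD 5 0, invSmall.getD 28 0)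

theorem triples_ok : (Nat.ble smallTriples.length 1320 && smallTriples.contains baseTriple &&
    ((slp [baseTriple.1, baseTriple.2.1, baseTriple.2.2]
      [(2, 1), (0, 3), (1, 0), (2, 5), (5, 6), (7, 2), (8, 8), (2, 0), (10, 10), (11, 11), (1, 10),
        (12, 13), (14, 2), (9, 15), (4, 15)]).getD 17 0 == elevC)) = true := by
  decide +kernel

theorem elevOrb_ok : (inM24 elevC && (pop24 15633434 == 12) && inCode 15633434 && !inCode 9532388 &&
    ((List.range 24).all fun j => (!Nat.testBit 15633434 j) || (j == 23) ||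
      (List.range 11).any fun i => app (powP elevC (i + 1)) 1 == j) &&
    ((List.range 24).all fun j => (j == 0) || (j == 23) || (List.range 11).any fun i =>
      (app (powP elevC (i + 1)) 1 == j) || (app (powP elevC (i + 1)) 2 == j)) &&
    ((List.range 11).all fun i => !Nat.testBit 15633434 (app (powP elevC (i + 1)) 2) &&
      Nat.testBit 9532388 (app (powP elevC (i + 1)) 2))) = true := by
  decide +kernel

theorem setOf_dod : setOf 15633434 ∈ dodecads := by
  refine ⟨?_, by rw [card_setOf]; decide +kernel⟩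
  rw [mem_supports_iff_inCode, maskOf_setOf (by norm_num)]
  decide +kernel

theorem ptFix {σ : P24} (hσ : σ ∈ Spor.M22) : σ (pt 23) = pt 23 ∧ σ (pt 0) = pt 0 := by
  rw [show pt 23 = (none : GolayPt) from pt23, show pt 0 = (some 0 : GolayPt) by decide]
  exact ⟨hσ.1.2, hσ.2⟩

/-- An element of M22 commuting with the element of order eleven and fixing one moved point is
trivial. -/
theorem eq_one_of_comm_fix {σ : P24} (hσ : σ ∈ Spor.M22)
    (hcomm : σ * toPerm elevC = toPerm elevC * σ) (hfix : σ (pt 1) = pt 1) : σ = 1 := by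
  have h := elevOrb_ok
  simp only [Bool.and_eq_true, List.all_eq_true, Bool.or_eq_true, Bool.not_eq_true', beq_iff_eq,
    List.any_eq_true, List.mem_range] at h
  have hA : ∀ x ∈ setOf 15633434, σ x = x := by
    intro x hx
    rw [mem_setOf] at hx
    rcases h.1.1.2 (idx x) (idx x).isLt with (h1 | h23) | ⟨i, -, hi⟩
    · rw [hx] at h1; exact absurd h1 (by simp)
    · have : x = pt 23 := idx_inj.1 (Fin.ext (by rw [idx_pt]; exact h23))
      rw [this]; exact (ptFix hσ).1
    · obtain ⟨hpv, hpe⟩ := toPerm_powP elevC_props.1 i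
      have e : x = toPerm (powP elevC (i + 1)) (pt 1) :=
        idx_inj.1 (Fin.ext (by rw [idx_toPerm hpv, idx_pt]; exact hi.symm))
      rw [e, hpe, ← Equiv.Perm.mul_apply, (Commute.pow_right (hcomm : Commute σ (toPerm elevC)) _).eq,
        Equiv.Perm.mul_apply, hfix]
  refine Suborbits.eq_one_of_fix_five setOf_dod hσ.1.1 ?_ (Finset.Subset.refl _) ?_ hA
  · refine Finset.eq_of_subset_of_card_le (fun y hy => ?_) (le_of_eq (Finset.card_smul_finset _ _).symm)
    obtain ⟨x, hx, rfl⟩ := Finset.mem_smul_finset.1 hy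
    rw [Equiv.Perm.smul_def, hA x hx]; exact hx
  · rw [card_setOf]; decide +kernel

/-- The centraliser of the element of order eleven in M22 is cyclic. -/
theorem comm_mem_zpowers {σ : P24} (hσ : σ ∈ Spor.M22)
    (hcomm : σ * toPerm elevC = toPerm elevC * σ) : σ ∈ Subgroup.zpowers (toPerm elevC) := by
  have h := elevOrb_ok
  simp only [Bool.and_eq_true, List.all_eq_true, Bool.or_eq_true, Bool.not_eq_true', beq_iff_eq,
    List.any_eq_true, List.mem_range] at h
  obtain ⟨⟨⟨⟨⟨⟨hM, -⟩, -⟩, hbad⟩, hA⟩, hall⟩, hB⟩ := h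
  set y := σ (pt 1)
  have hy0 : (idx y : ℕ) ≠ 0 ∧ (idx y : ℕ) ≠ 23 := by
    constructor
    · intro e
      have e' : σ (pt 1) = σ (pt 0) := by
        rw [(ptFix hσ).2]; exact idx_inj.1 (Fin.ext (by rw [idx_pt]; exact e))
      exact absurd (congrArg idx (σ.injective e')) (by simp [idx_pt])
    · intro e
      have e' : σ (pt 1) = σ (pt 23) := by
        rw [(ptFix hσ).1]; exact idx_inj.1 (Fin.ext (by rw [idx_pt]; exact e))
      exact absurd (congrArg idx (σ.injective e')) (by simp [idx_pt])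
  rcases hall (idx y) (idx y).isLt with (h0 | h23) | ⟨i, -, hi⟩
  · exact absurd h0 hy0.1
  · exact absurd h23 hy0.2
  obtain ⟨hpv, hpe⟩ := toPerm_powP elevC_props.1 i
  set q := toPerm elevC ^ (i + 1) with hq
  have hqM : q ∈ Spor.M22 := Spor.M22.pow_mem elevC_props.2.1 _
  have hqc : Commute q (toPerm elevC) := Commute.pow_self _ _
  rcases hi with hi | hi
  · have e : y = q (pt 1) := idx_inj.1 (Fin.ext (by rw [← hpe, idx_toPerm hpv, idx_pt]; exact hi.symm))
    have h1 : q⁻¹ * σ = 1 := eq_one_of_comm_fix (Spor.M22.mul_mem (Spor.M22.inv_mem hqM) hσ)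
      ((hqc.inv_left).mul_left hcomm).eq (by
        rw [Equiv.Perm.mul_apply]; show q⁻¹ y = pt 1; rw [e]; exact q.symm_apply_apply _)
    rw [← inv_mul_eq_one.1 h1]
    exact Subgroup.pow_mem _ (Subgroup.mem_zpowers _) _
  · -- the first orbit would go to the second
    exfalso
    have e : y = q (pt 2) := idx_inj.1 (Fin.ext (by rw [← hpe, idx_toPerm hpv, idx_pt]; exact hi.symm))
    have himg : σ • setOf 15633434 = setOf 9532388 := by
      refine Finset.eq_of_subset_of_card_le (fun z hz => ?_) ?_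
      · obtain ⟨x, hx, rfl⟩ := Finset.mem_smul_finset.1 hz
        rw [mem_setOf] at hx
        rcases hA (idx x) (idx x).isLt with (h1 | h23) | ⟨j, -, hj⟩
        · rw [hx] at h1; exact absurd h1 (by simp)
        · have : x = pt 23 := idx_inj.1 (Fin.ext (by rw [idx_pt]; exact h23))
          rw [this, Equiv.Perm.smul_def, (ptFix hσ).1]; decide +kernel
        · obtain ⟨hpv', hpe'⟩ := toPerm_powP elevC_props.1 j
          have ex : x = (toPerm elevC ^ (j + 1)) (pt 1) :=
            idx_inj.1 (Fin.ext (by rw [← hpe', idx_toPerm hpv', idx_pt]; exact hj.symm))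
          rw [ex, Equiv.Perm.smul_def, ← Equiv.Perm.mul_apply,
            (Commute.pow_right (hcomm : Commute σ (toPerm elevC)) _).eq, Equiv.Perm.mul_apply]
          show (toPerm elevC ^ (j + 1)) y ∈ _
          rw [e, hq, ← Equiv.Perm.mul_apply, ← pow_add]
          obtain ⟨k, hk, hke⟩ : ∃ k < 11, toPerm elevC ^ (j + 1 + (i + 1)) = toPerm elevC ^ (k + 1) := by
            refine ⟨(j + i + 1) % 11, Nat.mod_lt _ (by norm_num), ?_⟩
            rw [show j + 1 + (i + 1) = (j + i + 1) + 1 by omega, pow_succ,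
              pow_succ (toPerm elevC) ((j + i + 1) % 11)]
            congr 1
            exact pow_eq_pow_mod _ elevC_props.2.2
          obtain ⟨hpv'', hpe''⟩ := toPerm_powP elevC_props.1 k
          rw [hke, ← hpe'', mem_setOf, idx_toPerm hpv'', idx_pt]
          exact (hB k hk).2
      · rw [Finset.card_smul_finset, card_setOf, card_setOf]; decide +kernel
    have hd := smul_mem_dodecads hσ.1.1 setOf_dod
    rw [himg] at hd
    have hd' := mem_supports_iff_inCode.1 hd.1
    rw [maskOf_setOf (by norm_num), hbad] at hd'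
    exact absurd hd' (by simp)

theorem eleven_even_bound {H : Subgroup P24} (hH : H ≤ Spor.M22) (hc : toPerm elevC ∈ H)
    (h2 : 2 ∣ Nat.card H) : H = Spor.M22 ∨ Nat.card H ≤ 1320 := by
  classical
  by_contra hcon
  rw [not_or] at hcon
  haveI : Fact (Nat.Prime 2) := ⟨Nat.prime_two⟩
  obtain ⟨x, hx⟩ := exists_prime_orderOf_dvd_card' 2 h2
  have hinv : ∀ σ ∈ H, σ * σ = 1 → σ ≠ 1 → σ ∈ smallSet ∧ smallSet ⊆ (H : Set P24) :=
    fun σ a b c => (gen_or_small hH hc a b c).resolve_left hcon.1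
  have hsub : smallSet ⊆ (H : Set P24) := by
    refine (hinv x x.2 ?_ fun e => ?_).2
    · rw [← pow_two, ← Subgroup.coe_pow, ← hx, pow_orderOf_eq_one, Subgroup.coe_one]
    · rw [show x = 1 from Subtype.ext e, orderOf_one] at hx; omega
  have hI : ∀ u ∈ invSmall, validP u = true ∧ compP u idP = u ∧ toPerm u * toPerm u = 1 ∧ toPerm u ≠ 1 := by
    have h : (invSmall.all fun u => validP u && (compP u idP == u) && isIdP (compP u u) && !isIdP u) = true := by
      decide +kernel
    simp only [List.all_eq_true, Bool.and_eq_true, beq_iff_eq, Bool.not_eq_true'] at h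
    intro u hu
    obtain ⟨⟨⟨hv, hcn⟩, hsq⟩, hne⟩ := h u hu
    exact ⟨hv, hcn, by rw [← toPerm_compP hv hv, toPerm_eq_one_of_isIdP (validP_compP hv hv) hsq],
      fun e => by rw [(isIdP_iff hv).2 e] at hne; simp at hne⟩
  have hok := triples_ok
  simp only [Bool.and_eq_true, Nat.ble_eq, beq_iff_eq, List.contains_iff_mem] at hok
  obtain ⟨⟨hlen, hbase⟩, hslp⟩ := hok
  obtain ⟨t, u, v, hbt⟩ : ∃ t u v, baseTriple = (t, u, v) :=
    ⟨baseTriple.1, baseTriple.2.1, baseTriple.2.2, rfl⟩
  rw [hbt] at hbase hslp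
  simp only at hslp
  have hmemT : ∀ {a b c : ℕ}, (a, b, c) ∈ smallTriples ↔
      a ∈ invSmall ∧ b ∈ invSmall ∧ c ∈ invSmall ∧ a ≠ b ∧ isIdP (compP (compP a b) (compP a b)) = true ∧
      a ≠ c ∧ isIdP (powP (compP a c) 5) = true ∧ isIdP (powP (compP b c) 6) = true ∧
      isIdP (powP (compP b c) 3) = false ∧ isIdP (powP (compP b c) 2) = false := by
    intro a b c
    simp only [smallTriples, List.mem_flatMap, List.mem_map, List.mem_filter, Bool.and_eq_true,
      Bool.not_eq_true', beq_eq_false_iff_ne, Prod.mk.injEq]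
    constructor
    · rintro ⟨a', ha, b', ⟨hb, hab, h1⟩, c', ⟨hcm, ⟨⟨⟨hac, h2⟩, h3⟩, h4⟩, h5⟩, rfl, rfl, rfl⟩
      exact ⟨ha, hb, hcm, hab, h1, hac, h2, h3, h4, h5⟩
    · rintro ⟨ha, hb, hcm, hab, h1, hac, h2, h3, h4, h5⟩
      exact ⟨a, ha, b, ⟨hb, hab, h1⟩, c, ⟨hcm, ⟨⟨⟨hac, h2⟩, h3⟩, h4⟩, h5⟩, rfl, rfl, rfl⟩
  obtain ⟨ht, hu, hv, htu, p1, htv, p2, p3, p4, p5⟩ := hmemT.1 hbase
  let cj : P24 → P24 → P24 := fun h a => h * a * h⁻¹
  have himg : ∀ h ∈ H, ∀ a ∈ invSmall, ∃ a' ∈ invSmall, toPerm a' = cj h (toPerm a) := by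
    intro h hh a ha
    obtain ⟨-, -, hsq, hne⟩ := hI a ha
    have hmem : cj h (toPerm a) ∈ H := H.mul_mem (H.mul_mem hh (hsub ⟨a, ha, rfl⟩)) (H.inv_mem hh)
    obtain ⟨a', ha', e⟩ := (hinv _ hmem (by
      show h * toPerm a * h⁻¹ * (h * toPerm a * h⁻¹) = 1
      calc h * toPerm a * h⁻¹ * (h * toPerm a * h⁻¹) = h * (toPerm a * toPerm a) * h⁻¹ := by group
        _ = 1 := by rw [hsq, mul_one, mul_inv_cancel]) (fun e => hne (by
      have := congrArg (fun z => h⁻¹ * z * h) e
      simpa [cj, mul_assoc] using this))).1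
    exact ⟨a', ha', e⟩
  have hpow : ∀ {a b : ℕ}, a ∈ invSmall → b ∈ invSmall → ∀ n, validP (powP (compP a b) (n + 1)) = true ∧
      toPerm (powP (compP a b) (n + 1)) = (toPerm a * toPerm b) ^ (n + 1) := fun {a b} ha hb n => by
    rw [← toPerm_compP (hI a ha).1 (hI b hb).1]
    exact toPerm_powP (validP_compP (hI a ha).1 (hI b hb).1) n
  have conjpow : ∀ (h a b : P24) (n : ℕ), (cj h a * cj h b) ^ n = 1 ↔ (a * b) ^ n = 1 := by
    intro h a b n
    rw [show cj h a * cj h b = MulAut.conj h (a * b) by simp [cj, mul_assoc],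
      ← map_pow, MulEquiv.map_eq_one_iff]
  have himg' : ∀ h : H, ∃ T ∈ smallTriples, toPerm T.1 = cj h (toPerm t) ∧ toPerm T.2.1 = cj h (toPerm u) ∧
      toPerm T.2.2 = cj h (toPerm v) := by
    intro h
    obtain ⟨a, ha, ea⟩ := himg h h.2 t ht
    obtain ⟨b, hb, eb⟩ := himg h h.2 u hu
    obtain ⟨c, hc', ec⟩ := himg h h.2 v hv
    refine ⟨(a, b, c), hmemT.2 ⟨ha, hb, hc', ?_, ?_, ?_, ?_, ?_, ?_, ?_⟩, ea, eb, ec⟩
    · intro e; subst e
      rw [ea] at eb
      exact htu (toPerm_inj (hI t ht).1 (hI u hu).1 (hI t ht).2.1 (hI u hu).2.1 (by simpa [cj] using eb))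
    · have hab := validP_compP (hI a ha).1 (hI b hb).1
      have htu' := validP_compP (hI t ht).1 (hI u hu).1
      rw [isIdP_iff (validP_compP hab hab), toPerm_compP hab hab, toPerm_compP (hI a ha).1 (hI b hb).1,
        ← pow_two, ea, eb, conjpow, pow_two, ← toPerm_compP (hI t ht).1 (hI u hu).1,
        ← toPerm_compP htu' htu', ← isIdP_iff (validP_compP htu' htu')]
      exact p1
    · intro e; subst e
      rw [ea] at ec
      exact htv (toPerm_inj (hI t ht).1 (hI v hv).1 (hI t ht).2.1 (hI v hv).2.1 (by simpa [cj] using ec))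
    · rw [isIdP_iff (hpow ha hc' 4).1, (hpow ha hc' 4).2, ea, ec, conjpow, ← (hpow ht hv 4).2,
        ← isIdP_iff (hpow ht hv 4).1]
      exact p2
    · rw [isIdP_iff (hpow hb hc' 5).1, (hpow hb hc' 5).2, eb, ec, conjpow, ← (hpow hu hv 5).2,
        ← isIdP_iff (hpow hu hv 5).1]
      exact p3
    · rw [← Bool.not_eq_true, isIdP_iff (hpow hb hc' 2).1, (hpow hb hc' 2).2, eb, ec, conjpow,
        ← (hpow hu hv 2).2, ← isIdP_iff (hpow hu hv 2).1, Bool.not_eq_true]
      exact p4
    · rw [← Bool.not_eq_true, isIdP_iff (hpow hb hc' 1).1, (hpow hb hc' 1).2, eb, ec, conjpow,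
        ← (hpow hu hv 1).2, ← isIdP_iff (hpow hu hv 1).1, Bool.not_eq_true]
      exact p5
  choose T hT hT1 hT2 hT3 using himg'
  let F : H → {x // x ∈ smallTriples.toFinset} := fun h => ⟨T h, List.mem_toFinset.2 (hT h)⟩
  have hF : Function.Injective F := by
    intro h k e
    have e' : T h = T k := congrArg Subtype.val e
    have fixed : ∀ a : ℕ, cj h (toPerm a) = cj k (toPerm a) →
        Commute ((h : P24)⁻¹ * k) (toPerm a) := fun a ea => by
      show _ * _ = _ * _
      have ea' : (h : P24) * toPerm a * (h : P24)⁻¹ = k * toPerm a * (k : P24)⁻¹ := ea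
      calc (h : P24)⁻¹ * k * toPerm a = (h : P24)⁻¹ * (k * toPerm a * (k : P24)⁻¹) * k := by group
        _ = toPerm a * ((h : P24)⁻¹ * k) := by rw [← ea']; group
    have f1 := fixed t (by rw [← hT1, ← hT1, e'])
    have f2 := fixed u (by rw [← hT2, ← hT2, e'])
    have f3 := fixed v (by rw [← hT3, ← hT3, e'])
    set g := (h : P24)⁻¹ * (k : P24)
    have hg : g ∈ Spor.M22 := hH (H.mul_mem (H.inv_mem h.2) k.2)
    let K : Subgroup P24 := Subgroup.centralizer {g}
    have hgens : ∀ p ∈ [t, u, v], validP p = true ∧ toPerm p ∈ K := by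
      intro p hp
      simp only [List.mem_cons, List.not_mem_nil, or_false] at hp
      rcases hp with rfl | rfl | rfl
      · exact ⟨(hI _ ht).1, Subgroup.mem_centralizer_singleton_iff.2 f1.symm.eq⟩
      · exact ⟨(hI _ hu).1, Subgroup.mem_centralizer_singleton_iff.2 f2.symm.eq⟩
      · exact ⟨(hI _ hv).1, Subgroup.mem_centralizer_singleton_iff.2 f3.symm.eq⟩
    have hcK : toPerm elevC ∈ K := by
      rw [← hslp, List.getD_eq_getElem _ _ (by rw [slp_length]; simp)]
      exact (slp_mem (K := K) _ _ rfl hgens _ (List.getElem_mem _)).2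
    obtain ⟨m, hm⟩ := comm_mem_zpowers hg (Subgroup.mem_centralizer_singleton_iff.1 hcK).symm
    simp only at hm
    rw [← hm] at f1
    -- a power of the element of order eleven commuting with an involution of the triple
    have hne : Commute (toPerm elevC) (toPerm t) → False := by
      intro hcm
      have : compP elevC t ≠ compP t elevC := by
        have hd : (invSmall.all fun a => !(compP elevC a == compP a elevC)) = true := by decide +kernel
        simp only [List.all_eq_true, Bool.not_eq_true', beq_eq_false_iff_ne] at hd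
        exact hd t ht
      apply this
      refine toPerm_inj (validP_compP elevC_props.1 (hI t ht).1) (validP_compP (hI t ht).1 elevC_props.1)
        (compP_idP_self elevC_props.1 (hI t ht).1) (compP_idP_self (hI t ht).1 elevC_props.1) ?_
      rw [toPerm_compP elevC_props.1 (hI t ht).1, toPerm_compP (hI t ht).1 elevC_props.1]
      exact hcm.eq
    have hgone : g = 1 := by
      by_contra hg1
      apply hne
      haveI : Fact (Nat.Prime 11) := ⟨by norm_num⟩
      have hnd : ¬ (11 : ℤ) ∣ m := fun ⟨q, hq⟩ => hg1 (by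
        rw [← hm, hq, zpow_mul, zpow_ofNat, elevC_props.2.2, one_zpow])
      have hcop : IsCoprime (11 : ℤ) m := by
        rw [Int.isCoprime_iff_nat_coprime]
        exact (Nat.Prime.coprime_iff_not_dvd (by norm_num)).2 fun hd => hnd (Int.natCast_dvd.2 hd)
      obtain ⟨a, b, hab⟩ := hcop
      have e1 : toPerm elevC = (toPerm elevC ^ m) ^ b := by
        conv_lhs => rw [← zpow_one (toPerm elevC), ← hab, zpow_add, mul_comm a, zpow_mul, zpow_ofNat,
          elevC_props.2.2, one_zpow, one_mul, mul_comm, zpow_mul]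
      rw [e1]
      exact f1.zpow_left b
    exact Subtype.ext (inv_mul_eq_one.1 hgone)
  apply hcon.2
  have hcard := Nat.card_le_card_of_injective F hF
  rw [Nat.card_eq_fintype_card (α := {x // x ∈ smallTriples.toFinset}), Fintype.card_coe] at hcard
  exact hcard.trans ((List.toFinset_card_le _).trans hlen)

end

end Cfsg.Agent.Golay24.Index
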