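import Cfsg.Agent.Lib.Golay.Cert

/-! Perfect subgroups and generation (produced by an offline script). -/

set_option autoImplicit false

namespace Cfsg.Agent.Golay24.Index

noncomputable section

/-- A perfect subgroup. -/
def perfSeven : GenCert where
  gens := [
    975505824137494536236286143348918592, 959451402911995983632346012512294955]
  prog := [
    (0, 0), (0, 2), (0, 3), (0, 4), (0, 5), (0, 6), (0, 7), (1, 2),
    (1, 3), (1, 4), (1, 5), (1, 7), (1, 9), (1, 10), (0, 11), (1, 1),
    (1, 17), (1, 18), (1, 19), (1, 20), (1, 0), (7, 22), (19, 23), (24, 24),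
    (24, 25), (24, 1), (19, 27), (28, 24), (28, 25), (28, 26), (24, 29), (28, 29),
    (24, 30), (28, 30), (24, 31), (28, 32), (24, 33), (28, 28), (39, 39), (24, 28),
    (40, 41), (42, 42), (42, 43), (28, 31), (26, 45), (42, 46), (47, 42), (47, 43),
    (42, 49), (47, 49), (47, 47), (51, 47), (26, 53), (12, 54), (44, 52), (28, 56),
    (20, 57), (4, 58), (49, 52), (25, 60), (18, 61), (12, 62)]
  levels := [
    (1, [8, 0, 2, 3, 4, 5, 6, 7, 9, 10, 11, 12, 13, 14, 15, 16]),
    (0, [8, 1, 17, 18, 19, 20, 21]),
    (2, [8, 24, 25, 26, 28, 29, 30, 31, 32, 33, 34, 35, 36, 37, 38]),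
    (3, [8, 42, 43, 44, 48, 49, 50, 51]),
    (4, [8, 47, 52])]

/-- Its generators as commutators of members. -/
def perfSevenWit : List (Nat × Nat) :=
  [
    (55, 59), (63, 52)]

/-- A perfect subgroup. -/
def perfCo : GenCert where
  gens := [
    974415843631042751569873143790612170, 973132550536954581787625471887149764]
  prog := [
    (0, 0), (0, 2), (0, 3), (0, 4), (1, 0), (1, 2), (1, 3), (1, 1),
    (0, 6), (1, 6), (0, 7), (1, 7), (0, 9), (1, 10), (0, 11), (1, 11),
    (0, 13), (1, 13), (0, 17), (1, 4), (2, 21), (22, 22), (22, 23), (22, 24),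
    (9, 9), (0, 1), (26, 27), (28, 22), (28, 24), (28, 25), (22, 28), (28, 28),
    (28, 29), (22, 30), (28, 30), (22, 31), (28, 32), (28, 33), (22, 34), (28, 35),
    (22, 36), (28, 23), (43, 43), (31, 31), (45, 31), (22, 29), (46, 47), (48, 43),
    (48, 44), (43, 48), (48, 48), (43, 49), (48, 49), (43, 50), (48, 50), (30, 30),
    (57, 57), (22, 32), (58, 59), (60, 50), (60, 53), (60, 54), (60, 43), (52, 64),
    (65, 65), (23, 44), (9, 67), (51, 65), (28, 69), (3, 70), (49, 65), (40, 72),
    (2, 73), (48, 66), (22, 75), (13, 76)]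
  levels := [
    (0, [5, 0, 2, 3, 4, 1, 6, 7, 8, 9, 10, 11, 12, 13, 14, 15, 16, 17, 18, 19, 20]),
    (1, [5, 22, 23, 24, 25, 28, 29, 30, 31, 32, 33, 34, 35, 36, 37, 38, 39, 40, 41, 42]),
    (2, [5, 43, 44, 48, 49, 50, 51, 52, 53, 54, 55, 56, 60, 61, 62, 63]),
    (3, [5, 65, 66])]

/-- Its generators as commutators of members. -/
def perfCoWit : List (Nat × Nat) :=
  [
    (68, 71), (74, 77)]

/-- Generators of the stabiliser of a point in the Sylow subgroup. -/
def sylPtGens : List Nat :=
  [
    227538735266966445951018443134601536, 669951349472687930054142305768278336,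
    858948700046709485367228049242819168, 313095013481758279829408133105846592,
    170798226059257851438334535647070816]

/-- Its orbits. -/
def orbsPt : List (List Nat) :=
  [[0], [1, 10, 19, 13], [2], [3, 12, 23, 8, 7, 4, 15, 6, 21, 5, 16, 20, 18, 9, 17, 22], [11, 14]]

/-- Orbits of the Sylow subgroup. -/
def orbs24 : List (List Nat) :=
  [[0, 11, 19, 10, 1, 14, 2, 13], [3, 9, 12, 20, 18, 21, 16, 4, 8, 15, 7, 6, 5, 17, 22, 23]]

/-- Stabiliser elements joining the Sylow subgroup to the whole group. -/
def joinTwoGens : List Nat :=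
  [
    733824689325907372137753819586183424, 897342290385284269896177247008985824]

/-- Program. -/
def joinTwoProg : List (Nat × Nat) :=
  [
    (1, 1), (6, 1), (0, 1), (7, 8), (9, 9), (1, 0), (11, 11), (12, 11),
    (13, 2), (10, 14), (15, 0), (0, 16), (1, 17), (0, 0), (3, 19), (9, 19),
    (3, 21), (22, 4), (23, 15), (15, 24), (23, 25), (15, 1), (7, 27), (9, 28),
    (15, 29), (30, 24), (23, 31), (30, 32), (23, 23), (15, 23), (34, 35), (36, 30),
    (30, 37), (36, 38), (15, 9), (21, 40), (15, 41), (36, 42), (42, 43), (19, 0),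
    (23, 0), (45, 46), (47, 19), (20, 48), (15, 49), (43, 50), (44, 51), (52, 23),
    (34, 53), (39, 54), (33, 55), (33, 44), (44, 57), (58, 52), (52, 59), (52, 60),
    (60, 60), (52, 44), (44, 63), (64, 64), (55, 63), (65, 66), (67, 52), (62, 68),
    (69, 69), (61, 70), (56, 71), (26, 72), (20, 73), (18, 74), (23, 18), (9, 6),
    (42, 34), (55, 38), (55, 33), (55, 80), (52, 52), (58, 82), (52, 83), (84, 69),
    (81, 85), (79, 86), (78, 87), (77, 88), (76, 89), (23, 26), (55, 44), (52, 92),
    (82, 70), (93, 94), (79, 95), (91, 96)]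

/-- Outputs. -/
def joinTwoIx : List Nat :=
  [
    75, 90, 97]

/-- Stabiliser elements. -/
def joinThreeGens : List Nat :=
  [
    339417900239615459149651608265590880, 635089335374926181696285005392325728]

/-- Their join with the Sylow subgroup. -/
def joinThree : GenCert where
  gens := [
    313095249916655483477199944049539115, 393529461137811889672094259050054739,
    384451833106582944035162967867274314, 669951229664133967334151022133774752,
    339417900239615459149651608265590880, 635089335374926181696285005392325728]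
  prog := [
    (0, 0), (0, 6), (0, 7), (1, 0), (1, 1), (10, 1), (0, 1), (11, 12),
    (13, 13), (9, 9), (15, 9), (16, 2), (14, 17), (18, 0), (18, 9), (0, 19),
    (1, 21), (13, 10), (3, 23), (24, 4), (25, 1), (25, 9), (25, 20), (25, 22),
    (0, 26), (1, 26), (18, 26), (3, 26), (1, 27), (18, 27), (3, 27), (0, 28),
    (1, 28), (3, 28), (1, 29), (3, 29), (13, 6), (13, 14), (3, 6), (3, 13),
    (3, 42), (3, 14), (3, 10), (3, 43), (25, 45), (25, 46), (25, 49), (25, 24),
    (25, 18), (18, 13), (42, 55), (18, 56), (18, 1), (11, 58), (13, 59), (18, 60),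
    (61, 57), (25, 57), (25, 61), (25, 62), (25, 3), (3, 66), (18, 67), (68, 57),
    (68, 61), (68, 62), (68, 25), (68, 63), (68, 64), (68, 65), (25, 68), (69, 76),
    (73, 73), (78, 73), (34, 34), (80, 80), (81, 34), (25, 31), (82, 83), (13, 84),
    (18, 85), (79, 86), (87, 77), (77, 87), (77, 88)]
  levels := [
    (0, [8, 0, 1, 9, 19, 20, 21, 22, 26, 27, 28, 29, 30, 31, 32, 33, 34, 35, 36, 37, 38, 39, 40, 41]),
    (3, [8, 6, 13, 42, 14, 10, 43, 23, 3, 44, 45, 46, 47, 48, 49, 24, 50, 51, 52, 53]),
    (4, [8, 18, 54]),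
    (1, [8, 57, 61, 62, 25, 63, 64, 65, 68, 69, 70, 71, 72, 73, 74, 75]),
    (5, [8, 77, 87, 88, 89, 90])]

/-- Stabiliser elements. -/
def joinSixGens : List Nat :=
  [
    754899178637451431026868655791671904, 212305263035140309595840466802707040]

/-- Their join with the Sylow subgroup. -/
def joinSix : GenCert where
  gens := [
    313095249916655483477199944049539115, 393529461137811889672094259050054739,
    384451833106582944035162967867274314, 669951229664133967334151022133774752,
    754899178637451431026868655791671904, 212305263035140309595840466802707040]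
  prog := [
    (0, 0), (0, 6), (0, 7), (1, 0), (1, 1), (10, 1), (0, 1), (11, 12),
    (13, 13), (9, 9), (15, 9), (16, 2), (14, 17), (18, 0), (18, 9), (0, 19),
    (1, 21), (13, 6), (13, 14), (13, 10), (3, 6), (3, 13), (3, 23), (3, 14),
    (3, 10), (3, 24), (3, 25), (26, 4), (33, 18), (18, 33), (18, 13), (23, 36),
    (18, 37), (38, 33), (18, 1), (11, 40), (13, 41), (18, 42), (43, 33), (33, 33),
    (18, 34), (43, 34), (43, 35), (43, 39), (18, 44), (33, 44), (43, 46), (43, 38),
    (46, 46), (54, 54), (38, 34), (55, 56), (57, 38), (57, 53), (48, 48), (60, 60),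
    (22, 22), (62, 22), (33, 0), (63, 64), (3, 65), (61, 66), (38, 67), (68, 43),
    (57, 43), (43, 70), (71, 57), (68, 57), (68, 71), (68, 72), (68, 38), (38, 76),
    (71, 77), (78, 78)]
  levels := [
    (0, [8, 0, 1, 9, 19, 20, 21, 22]),
    (3, [8, 6, 13, 23, 14, 10, 24, 25, 3, 26, 27, 28, 29, 30, 31, 32]),
    (4, [8, 18, 33, 34, 35, 39, 44, 45, 46, 47, 48, 49, 50, 51, 52]),
    (1, [8, 38, 43, 53, 58, 59, 69]),
    (5, [8, 57, 71, 72, 68, 73, 74, 75]),
    (2, [8, 78, 79])]

/-- Stabiliser elements. -/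
def joinSevenGens : List Nat :=
  [
    256477982686191692752944732017740832, 236537704698910257826601629702816832]

/-- Their join with the Sylow subgroup. -/
def joinSeven : GenCert where
  gens := [
    313095249916655483477199944049539115, 393529461137811889672094259050054739,
    384451833106582944035162967867274314, 669951229664133967334151022133774752,
    256477982686191692752944732017740832, 236537704698910257826601629702816832]
  prog := [
    (0, 0), (0, 6), (0, 7), (1, 0), (1, 1), (10, 1), (0, 1), (11, 12),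
    (13, 13), (9, 9), (15, 9), (16, 2), (14, 17), (18, 0), (18, 9), (0, 19),
    (1, 21), (13, 6), (13, 14), (13, 10), (3, 6), (3, 13), (3, 23), (3, 14),
    (3, 10), (3, 24), (3, 25), (29, 4), (33, 18), (18, 33), (18, 1), (11, 36),
    (13, 37), (18, 38), (39, 33), (18, 34), (18, 13), (23, 42), (18, 43), (44, 34),
    (39, 34), (39, 35), (33, 35), (44, 41), (39, 41), (33, 45), (33, 50), (39, 44),
    (40, 40), (54, 54), (55, 54), (33, 33), (56, 57), (53, 58), (59, 39), (59, 53),
    (35, 35), (62, 62), (63, 62), (44, 33), (64, 65), (66, 60), (59, 66), (66, 59),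
    (59, 59), (59, 44), (53, 71), (72, 69), (72, 66), (59, 74), (75, 75)]
  levels := [
    (0, [8, 0, 1, 9, 19, 20, 21, 22]),
    (3, [8, 6, 13, 23, 14, 10, 24, 25, 3, 26, 27, 28, 29, 30, 31, 32]),
    (4, [8, 18, 33, 34, 35, 40, 41, 45, 46, 47, 48, 49, 50, 51, 52]),
    (1, [8, 44, 39, 53, 60, 61, 67]),
    (5, [8, 66, 59, 68, 69, 70, 72, 73]),
    (2, [8, 75, 76])]

end

end Cfsg.Agent.Golay24.Index
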