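import Cfsg.Agent.Lib.Golay.Index.LineData
import Cfsg.Agent.Lib.Golay.Index.Core
import Cfsg.Agent.Lib.Golay.ListGroup
import Cfsg.Agent.Lib.Golay.SylowM23
import Cfsg.Agent.Lib.Golay.Gens
import Mathlib.Algebra.Field.ZMod

/-!
The group of order 6072 on the projective line of 23 elements and its point stabiliser 23:11,
maximal in M24 and M23 respectively.
-/

set_option autoImplicit false

namespace Cfsg.Agent.Golay24.Index

noncomputable section

open Cfsg ListGroup
open scoped Pointwise

attribute [local irreducible] weightList codeList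

/-- The code of the translation. -/
def shiftCode : ℕ := affGens.getD 0 0

/-- The code of multiplication by two. -/
def doubleCode : ℕ := affGens.getD 1 0

/-- The code of the inversion. -/
def flipCode : ℕ := permCodeTo projInv 24

/-- The point stabiliser by all its elements. -/
def affCert : ListCert := ⟨affGens, affElems, affTree⟩

/-- Membership of a list as a number table. -/
def affTab : ℕ := packSlots 120 affElems

theorem aff_ok : (affCert.ok && (affElems.length == 253) && affGens.all (fun g => app g 23 == 23) &&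
    (affGens.length == 2) &&
    affGens.all (fun g => affElems.all fun x => affElems.any fun y => compP g x == y)) = true := by
  decide +kernel

theorem line_ok : ((lineTrans.length == 24) && lineTrans.all inM24 &&
    decide ((lineTrans.map fun t => app t 23).Nodup) && (lineRows.length == 3) &&
    slotsOk 120 affTab 0 affElems && inM24 flipCode &&
    ([shiftCode, doubleCode, flipCode].zip lineRows).all (fun gr => (gr.2.length == 24) &&
      (lineTrans.zip gr.2).all fun tj => Nat.blt tj.2.1 24 && Nat.blt tj.2.2 253 &&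
        (compP gr.1 tj.1 == compP (lineTrans.getD tj.2.1 0) (getSlot 120 affTab tj.2.2)))) = true := by
  decide +kernel

theorem aff_lineTrans : (lineTrans.getD 0 0 == idP) = true := by decide +kernel

/-- The group of the projective line. -/
abbrev lineGrp : Subgroup (Equiv.Perm GolayPt) :=
  Subgroup.closure {σ | ∃ g ∈ [shiftCode, doubleCode, flipCode], toPerm g = σ}

/-- The point stabiliser. -/
abbrev affGrp : Subgroup (Equiv.Perm GolayPt) := affCert.grp

theorem affGens_eq : affGens = [shiftCode, doubleCode] := rfl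

theorem shift_mem : shiftCode ∈ affGens := by simp [affGens_eq]

theorem double_mem : doubleCode ∈ affGens := by simp [affGens_eq]

theorem mem_affGrp {σ : Equiv.Perm GolayPt} :
    σ ∈ affGrp ↔ ∃ x ∈ affElems, toPerm x = σ := by
  have h := aff_ok
  simp only [Bool.and_eq_true, List.all_eq_true, List.any_eq_true, beq_iff_eq] at h
  obtain ⟨⟨⟨⟨hok, hl⟩, -⟩, -⟩, hcl⟩ := h
  refine ⟨fun hσ => ?_, fun ⟨x, hx, e⟩ => e ▸ (affCert.props hok hx).2.2⟩
  have key : ∀ d ∈ affGrp, ∀ x ∈ affElems, ∃ y ∈ affElems, d * toPerm x = toPerm y := by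
    intro d hd
    rw [affGrp, ListCert.grp, ← SetLike.mem_coe, ← Subgroup.coe_toSubmonoid,
      Subgroup.closure_toSubmonoid_of_finite, SetLike.mem_coe] at hd
    induction hd using Submonoid.closure_induction with
    | mem y hy =>
      obtain ⟨g, hg, rfl⟩ := hy
      intro x hx
      obtain ⟨y, hy, e⟩ := hcl g hg x hx
      have hgv : validP g = true := by
        have h' := hok
        simp only [ListCert.ok, Bool.and_eq_true, List.all_eq_true] at h'
        exact valid_of_inM24 (h'.1.1.1.1.1 g hg)
      exact ⟨y, hy, by rw [← toPerm_compP hgv (affCert.props hok hx).1, e]⟩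
    | one => exact fun x hx => ⟨x, hx, one_mul _⟩
    | mul y z _ _ hy hz =>
      intro x hx
      obtain ⟨u, hu, e⟩ := hz x hx
      obtain ⟨u', hu', e'⟩ := hy u hu
      exact ⟨u', hu', by rw [mul_assoc, e, e']⟩
  have h0 : affElems.getD 0 0 = idP := by
    have h' := hok
    simp only [ListCert.ok, Bool.and_eq_true, beq_iff_eq] at h'
    exact h'.1.1.2
  obtain ⟨y, hy, e⟩ := key σ hσ idP (by
    rw [← h0, List.getD_eq_getElem _ _ (by omega)]; exact List.getElem_mem _)
  exact ⟨y, hy, by rw [← e, toPerm_idP, mul_one]⟩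

theorem card_affGrp : Nat.card affGrp = 253 := by
  classical
  have h := aff_ok
  simp only [Bool.and_eq_true, beq_iff_eq] at h
  have hok := h.1.1.1.1
  have hnd : affElems.Nodup := by
    have h' := hok
    simp only [ListCert.ok, Bool.and_eq_true, decide_eq_true_eq] at h'
    exact h'.1.1.1.2
  have hinj : Set.InjOn toPerm {x | x ∈ affElems} := fun a ha b hb e =>
    toPerm_inj (affCert.props hok ha).1 (affCert.props hok hb).1 (affCert.props hok ha).2.1
      (affCert.props hok hb).2.1 e
  rw [show Nat.card affGrp = (affGrp : Set (Equiv.Perm GolayPt)).ncard from Nat.card_coe_set_eq _,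
    show (affGrp : Set (Equiv.Perm GolayPt)) = toPerm '' {x | x ∈ affElems} from Set.ext fun σ =>
      mem_affGrp.trans ⟨fun ⟨x, hx, e⟩ => ⟨x, hx, e⟩, fun ⟨x, hx, e⟩ => ⟨x, hx, e⟩⟩,
    hinj.ncard_image, show {x | x ∈ affElems} = (↑affElems.toFinset : Set ℕ) by ext; simp,
    Set.ncard_coe_finset, List.toFinset_card_of_nodup hnd, h.1.1.1.2]

theorem aff_gens_props {g : ℕ} (hg : g ∈ affGens) : inM24 g = true ∧ app g 23 = 23 := by
  have h := aff_ok
  simp only [Bool.and_eq_true, List.all_eq_true, beq_iff_eq] at h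
  have h' := h.1.1.1.1
  simp only [ListCert.ok, Bool.and_eq_true, List.all_eq_true] at h'
  exact ⟨h'.1.1.1.1.1 g hg, h.1.1.2 g hg⟩

theorem shift_mem_aff : toPerm shiftCode ∈ affGrp := by
  rw [affGrp, ListCert.grp]; exact Subgroup.subset_closure ⟨shiftCode, shift_mem, rfl⟩

theorem double_mem_aff : toPerm doubleCode ∈ affGrp := by
  rw [affGrp, ListCert.grp]; exact Subgroup.subset_closure ⟨doubleCode, double_mem, rfl⟩

theorem affGrp_le : affGrp ≤ Spor.M23 := by
  rw [affGrp, ListCert.grp, Subgroup.closure_le]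
  rintro _ ⟨g, hg, rfl⟩
  obtain ⟨hM, h23⟩ := aff_gens_props hg
  exact ⟨toPerm_mem_M24 hM, pt23 ▸ toPerm_mem_stabilizer (by norm_num) (valid_of_inM24 hM) h23⟩

theorem affGrp_le_lineGrp : affGrp ≤ lineGrp := by
  rw [affGrp, ListCert.grp, Subgroup.closure_le]
  rintro _ ⟨g, hg, rfl⟩
  refine Subgroup.subset_closure ⟨g, ?_, rfl⟩
  rw [show affCert.gens = [shiftCode, doubleCode] from rfl] at hg
  simp only [List.mem_cons, List.not_mem_nil, or_false] at hg ⊢
  tauto

theorem line_gens_valid {g : ℕ} (hg : g ∈ [shiftCode, doubleCode, flipCode]) : inM24 g = true := by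
  have h := line_ok
  simp only [Bool.and_eq_true] at h
  simp only [List.mem_cons, List.not_mem_nil, or_false] at hg
  rcases hg with rfl | rfl | rfl
  · exact (aff_gens_props (by simp [affGens_eq])).1
  · exact (aff_gens_props (by simp [affGens_eq])).1
  · exact h.1.2

theorem lineGrp_le : lineGrp ≤ M24 := by
  rw [lineGrp, Subgroup.closure_le]
  rintro _ ⟨g, hg, rfl⟩
  exact toPerm_mem_M24 (line_gens_valid hg)

/-- Coset decomposition of the group of the line. -/
theorem lineGrp_decomp : ∀ σ ∈ lineGrp, ∀ i < 24, ∃ j < 24, ∃ b ∈ affGrp,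
    σ * toPerm (lineTrans.getD i 0) = toPerm (lineTrans.getD j 0) * b := by
  intro σ hσ
  rw [lineGrp, ← SetLike.mem_coe, ← Subgroup.coe_toSubmonoid,
    Subgroup.closure_toSubmonoid_of_finite, SetLike.mem_coe] at hσ
  induction hσ using Submonoid.closure_induction with
  | mem y hy =>
    obtain ⟨g, hg, rfl⟩ := hy
    intro i hi
    have hgv := valid_of_inM24 (line_gens_valid hg)
    have h := line_ok
    simp only [Bool.and_eq_true, List.all_eq_true, beq_iff_eq, Nat.blt_eq] at h
    obtain ⟨⟨⟨⟨⟨⟨hl, hin⟩, -⟩, hrl⟩, hs⟩, -⟩, hrows⟩ := h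
    obtain ⟨k, hk, rfl⟩ := List.mem_iff_getElem.1 hg
    have hk3 : k < lineRows.length := by rw [hrl]; simpa using hk
    obtain ⟨hlen, hrow⟩ := hrows ([shiftCode, doubleCode, flipCode][k], lineRows[k]'hk3)
      (List.mem_iff_getElem.2 ⟨k, by rw [List.length_zip]; omega, List.getElem_zip⟩)
    have hlen' : (lineRows[k]'hk3).length = 24 := hlen
    obtain ⟨⟨hj, hb⟩, he⟩ := hrow (lineTrans[i]'(by omega), (lineRows[k]'hk3)[i]'(by omega))
      (List.mem_iff_getElem.2 ⟨i, by rw [List.length_zip]; omega, List.getElem_zip⟩)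
    set j := ((lineRows[k]'hk3)[i]'(by omega)).1
    set bi := ((lineRows[k]'hk3)[i]'(by omega)).2
    have hslot : getSlot 120 affTab bi ∈ affElems := by
      have hlA : affElems.length = 253 := by
        have h := aff_ok
        simp only [Bool.and_eq_true, beq_iff_eq] at h
        exact h.1.1.1.2
      have := slotsOk_spec _ _ hs bi (by omega)
      rw [Nat.zero_add] at this
      rw [this]; exact List.getElem_mem _
    have hbm : toPerm (getSlot 120 affTab bi) ∈ affGrp := mem_affGrp.2 ⟨_, hslot, rfl⟩
    have hbv : validP (getSlot 120 affTab bi) = true := by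
      have h := aff_ok
      simp only [Bool.and_eq_true] at h
      exact (affCert.props h.1.1.1.1 hslot).1
    have htj : validP (lineTrans.getD j 0) = true := by
      rw [List.getD_eq_getElem _ _ (by omega)]
      exact valid_of_inM24 (hin _ (List.getElem_mem _))
    simp only at he
    refine ⟨j, hj, _, hbm, ?_⟩
    rw [List.getD_eq_getElem _ _ (show i < lineTrans.length by omega),
      ← toPerm_compP hgv (valid_of_inM24 (hin _ (List.getElem_mem _))), ← toPerm_compP htj hbv]
    exact congrArg toPerm he
  | one => exact fun i hi => ⟨i, hi, 1, affGrp.one_mem, by simp⟩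
  | mul x y _ _ hx hy =>
    intro i hi
    obtain ⟨j, hj, b, hb, e⟩ := hy i hi
    obtain ⟨j', hj', b', hb', e'⟩ := hx j hj
    exact ⟨j', hj', b' * b, affGrp.mul_mem hb' hb, by rw [mul_assoc, e, ← mul_assoc, e', mul_assoc]⟩

theorem lineTrans_zero : toPerm (lineTrans.getD 0 0) = 1 := by
  rw [beq_iff_eq.1 aff_lineTrans, toPerm_idP]

theorem lineTrans_inj {i j : ℕ} (hi : i < 24) (hj : j < 24)
    (h : toPerm (lineTrans.getD i 0) none = toPerm (lineTrans.getD j 0) none) : i = j := by
  have hok := line_ok
  simp only [Bool.and_eq_true, List.all_eq_true, beq_iff_eq, decide_eq_true_eq] at hok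
  obtain ⟨⟨⟨⟨⟨⟨hl, hin⟩, hnd⟩, -⟩, -⟩, -⟩, -⟩ := hok
  rw [List.getD_eq_getElem _ _ (by omega), List.getD_eq_getElem _ _ (by omega)] at h
  have h' := congrArg (fun x : GolayPt => (idx x : ℕ)) h
  simp only [idx_toPerm (valid_of_inM24 (hin _ (List.getElem_mem _)))] at h'
  exact (List.Nodup.getElem_inj_iff hnd (hi := by simp; omega) (hj := by simp; omega)).1
    (by simp only [List.getElem_map]; exact h')

theorem mem_hOrb_line {K : Subgroup (Equiv.Perm GolayPt)} (hK : lineGrp ≤ K) (x : GolayPt) :
    x ∈ hOrb K none := by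
  cases x with
  | none => exact self_mem_hOrb _ _
  | some z =>
    have hsh : ∀ w : ZMod 23, toPerm shiftCode (some w) = some (w + 1) := by
      intro w
      rw [toPerm_apply (valid_of_inM24 (line_gens_valid (by simp)))]
      revert w; decide +kernel
    have hn : ∀ n : ℕ, (toPerm shiftCode ^ n) (some 0) = some (n : ZMod 23) := by
      intro n
      induction n with
      | zero => simp
      | succ n ih => rw [pow_succ', Equiv.Perm.mul_apply, ih, hsh, Nat.cast_succ]
    have hflip : toPerm flipCode none = some 0 := by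
      rw [toPerm_apply (valid_of_inM24 (line_gens_valid (by simp)))]; decide +kernel
    refine mem_hOrb.2 ⟨toPerm shiftCode ^ z.val * toPerm flipCode,
      hK (lineGrp.mul_mem (lineGrp.pow_mem (affGrp_le_lineGrp shift_mem_aff) _) ?_), ?_⟩
    · rw [lineGrp]; exact Subgroup.subset_closure ⟨flipCode, by simp, rfl⟩
    rw [Equiv.Perm.mul_apply, hflip, hn, ZMod.natCast_zmod_val]

theorem hOrb_line {K : Subgroup (Equiv.Perm GolayPt)} (hK : lineGrp ≤ K) :
    (hOrb K none).card = 24 :=
  (congrArg Finset.card (Finset.eq_univ_iff_forall.2 (mem_hOrb_line hK))).trans (by decide)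

theorem card_lineGrp : Nat.card lineGrp = 6072 := by
  have hsub : lineGrp ⊓ MulAction.stabilizer (Equiv.Perm GolayPt) (none : GolayPt) = affGrp := by
    refine le_antisymm (fun σ hσ => ?_) (fun σ hσ => ⟨affGrp_le_lineGrp hσ, (affGrp_le hσ).2⟩)
    obtain ⟨j, hj, b, hb, e⟩ := lineGrp_decomp σ hσ.1 0 (by norm_num)
    rw [lineTrans_zero, mul_one] at e
    have hz : j = 0 := lineTrans_inj hj (by norm_num) (by
      rw [lineTrans_zero, Equiv.Perm.one_apply]
      have h2 : σ none = none := hσ.2
      have hb2 : b none = none := (affGrp_le hb).2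
      rw [e, Equiv.Perm.mul_apply, hb2] at h2
      exact h2)
    rw [e, hz, lineTrans_zero, one_mul]
    exact hb
  have h := card_hOrb_mul lineGrp none
  rw [hOrb_line le_rfl, hsub, card_affGrp] at h
  omega

/-! ### The normaliser of the translations -/

theorem shift_valid : validP shiftCode = true := valid_of_inM24 (aff_gens_props shift_mem).1

theorem shift_apply : ∀ w : GolayPt, toPerm shiftCode w = w.map (· + 1) := by
  intro w
  rw [toPerm_apply shift_valid]
  revert w; decide +kernel

theorem affine_twist_ok : ∀ k : ZMod 23, k ≠ 0 →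
    (∃ i ∈ List.range 11, ∀ x : GolayPt, appPt (powP doubleCode (i + 1)) x = x.map (k * ·)) ∨
    inCode (maskOf ((setOf 14919680).image fun x => x.map (k * ·))) = false := by
  decide +kernel

theorem word_in_supports : inCode (maskOf (setOf 14919680)) = true := by decide +kernel

/-- An element of M23 normalising the translations lies in 23:11. -/
theorem mem_aff_of_normalises {g : Equiv.Perm GolayPt} (hg : g ∈ Spor.M23) {m : ℕ}
    (h : g * toPerm shiftCode = toPerm shiftCode ^ m * g) : g ∈ affGrp := by
  haveI : Fact (Nat.Prime 23) := ⟨by norm_num⟩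
  have hshift : inM24 shiftCode = true ∧ app shiftCode 23 = 23 :=
    aff_gens_props (by simp [affGens_eq])
  have hsh := shift_apply
  have hpow : ∀ (n : ℕ) (w : GolayPt), (toPerm shiftCode ^ n) w = w.map (· + (n : ZMod 23)) := by
    intro n
    induction n with
    | zero => intro w; cases w <;> simp
    | succ n ih =>
      intro w
      rw [pow_succ', Equiv.Perm.mul_apply, ih, hsh]
      cases w <;> simp [add_assoc]
  obtain ⟨a, ha⟩ : ∃ a, g (some 0) = some a := by
    cases hv : g (some 0) with
    | none => exact absurd (g.injective (hv.trans hg.2.symm)) (by simp)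
    | some a => exact ⟨a, rfl⟩
  set u := (toPerm shiftCode ^ a.val)⁻¹ * g with hu
  have huA : toPerm shiftCode ^ a.val ∈ affGrp :=
    Subgroup.pow_mem _ shift_mem_aff _
  have huM : u ∈ Spor.M23 := Spor.M23.mul_mem (Spor.M23.inv_mem (affGrp_le huA)) hg
  have hu0 : u (some 0) = some 0 := by
    rw [hu, Equiv.Perm.mul_apply, ha, Equiv.Perm.inv_eq_iff_eq, hpow, Option.map_some,
      ZMod.natCast_zmod_val, zero_add]
  have hum : ∀ w, u (toPerm shiftCode w) = (toPerm shiftCode ^ m) (u w) := by
    intro w
    have e1 : u * toPerm shiftCode = toPerm shiftCode ^ m * u := by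
      rw [hu, mul_assoc, h, ← mul_assoc, ← mul_assoc,
        ((Commute.refl (toPerm shiftCode)).pow_pow a.val m).inv_left.eq]
    rw [← Equiv.Perm.mul_apply, e1, Equiv.Perm.mul_apply]
  have hval : ∀ n : ℕ, u (some (n : ZMod 23)) = some ((m : ZMod 23) * n) := by
    intro n
    induction n with
    | zero => simp [hu0]
    | succ n ih =>
      have e := hum (some (n : ZMod 23))
      rw [hsh, ih, hpow, Option.map_some, Option.map_some] at e
      rw [Nat.cast_succ, e]
      congr 1; ring
  have hfun : ∀ x : GolayPt, u x = x.map ((m : ZMod 23) * ·) := by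
    intro x
    cases x with
    | none => exact huM.2
    | some z => rw [← ZMod.natCast_zmod_val z, hval]; rfl
  have hk : (m : ZMod 23) ≠ 0 := fun e => by
    have := u.injective ((hfun (some 1)).trans (show _ = u (some 0) by rw [hfun (some 0)]; simp [e]))
    simp at this
  suffices hmem : u ∈ affGrp by
    have := affGrp.mul_mem huA hmem
    rwa [hu, mul_inv_cancel_left] at this
  rcases affine_twist_ok _ hk with ⟨i, -, hi⟩ | hbad
  · have hd : inM24 doubleCode = true := (aff_gens_props (by simp [affGens_eq])).1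
    obtain ⟨hv, he⟩ := toPerm_powP (valid_of_inM24 hd) i
    have : u = toPerm doubleCode ^ (i + 1) := by
      rw [← he]; exact Equiv.ext fun x => by rw [hfun, toPerm_apply hv, hi]
    rw [this]
    exact Subgroup.pow_mem _ double_mem_aff _
  · exfalso
    have hs := smul_mem_supports huM.1 (mem_supports_iff_inCode.2 word_in_supports)
    rw [mem_supports_iff_inCode, show u • setOf 14919680 = (setOf 14919680).image
      (fun x => x.map ((m : ZMod 23) * ·)) from
      (Finset.image_congr fun x _ => hfun x : (setOf 14919680).image (fun x => u x) = _), hbad] at hs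
    exact absurd hs (by simp)

/-! ### Involutions -/

/-- The packed table of involutions of M23. -/
def inv23Tab : ℕ := packSlots 120 inv23

theorem inv23_table_ok : (slotsOk 120 inv23Tab 0 inv23 && (inv23.length == 3795) &&
    inv23.all (fun t => validP t) &&
    (inv23Rows.length == m23Cert.gens.length) && m23Cert.gens.all inM24 &&
    (m23Cert.gens.zip inv23Rows).all (fun gr => (gr.2.length == 3795) &&
      (inv23.zip gr.2).all fun tk => Nat.blt tk.2 3795 &&
        (compP gr.1 tk.1 == compP (getSlot 120 inv23Tab tk.2) gr.1)) &&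
    m23Syl.elems.all (fun p => isIdP p || !isIdP (compP p p) || inv23.contains p)) = true := by
  decide +kernel

theorem inv23_assign_ok : ((inv23Asg.length == 3795) &&
    (inv23.zip inv23Asg).all (fun ta => Nat.blt ta.2.1 253 && Nat.blt ta.2.2 15 &&
      (compP (getSlot 120 affTab ta.2.1) (inv23Reps.getD ta.2.2 0) ==
        compP ta.1 (getSlot 120 affTab ta.2.1))) &&
    slotsOk 120 affTab 0 affElems &&
    (inv23Reps.length == 15) && (inv23Progs.length == 15) &&
    (inv23Reps.zip inv23Progs).all (fun rp => validP rp.1 && slpOk 2 rp.2.1 &&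
      rp.2.2.all (fun k => Nat.blt k (2 + rp.2.1.length)) &&
      (rp.2.2.map (fun k => (slp [shiftCode, rp.1] rp.2.1).getD k 0) == m23Cert.gens))) = true := by
  decide +kernel

theorem inv23_slot {k : ℕ} (hk : k < 3795) :
    getSlot 120 inv23Tab k ∈ inv23 ∧ validP (getSlot 120 inv23Tab k) = true := by
  have h := inv23_table_ok
  simp only [Bool.and_eq_true, beq_iff_eq, List.all_eq_true] at h
  obtain ⟨⟨⟨⟨⟨⟨hs, hl⟩, hv⟩, -⟩, -⟩, -⟩, -⟩ := h
  have := slotsOk_spec _ _ hs k (by omega)
  rw [Nat.zero_add] at this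
  rw [this]
  exact ⟨List.getElem_mem _, hv _ (List.getElem_mem _)⟩

theorem M23_permutes_inv {k : Equiv.Perm GolayPt} (hk : k ∈ Spor.M23) :
    ∀ t ∈ inv23, ∃ t' ∈ inv23, k * toPerm t = toPerm t' * k := by
  rw [← m23_grp, GenCert.grp, ← SetLike.mem_coe, ← Subgroup.coe_toSubmonoid,
    Subgroup.closure_toSubmonoid_of_finite, SetLike.mem_coe] at hk
  induction hk using Submonoid.closure_induction with
  | mem x hx =>
    obtain ⟨g, hg, rfl⟩ := hx
    intro t ht
    have h := inv23_table_ok
    simp only [Bool.and_eq_true, List.all_eq_true, beq_iff_eq, Nat.blt_eq] at h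
    obtain ⟨⟨⟨⟨⟨⟨-, hl⟩, hv⟩, hrl⟩, hgin⟩, hrows⟩, -⟩ := h
    obtain ⟨j, hj, rfl⟩ := List.mem_iff_getElem.1 hg
    obtain ⟨i, hi, rfl⟩ := List.mem_iff_getElem.1 ht
    obtain ⟨hlen, hrow⟩ := hrows (m23Cert.gens[j], inv23Rows[j]'(by omega))
      (List.mem_iff_getElem.2 ⟨j, by rw [List.length_zip]; omega, List.getElem_zip⟩)
    have hlen' : (inv23Rows[j]'(by omega)).length = 3795 := hlen
    obtain ⟨hk', he⟩ := hrow (inv23[i], (inv23Rows[j]'(by omega))[i]'(by omega))
      (List.mem_iff_getElem.2 ⟨i, by rw [List.length_zip]; omega, List.getElem_zip⟩)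
    have hgv := valid_of_inM24 (hgin _ hg)
    refine ⟨_, (inv23_slot hk').1, ?_⟩
    rw [← toPerm_compP hgv (hv _ ht), ← toPerm_compP (inv23_slot hk').2 hgv, he]
  | one => exact fun t ht => ⟨t, ht, by simp⟩
  | mul x y _ _ hx hy =>
    intro t ht
    obtain ⟨u, hu, e⟩ := hy t ht
    obtain ⟨u', hu', e'⟩ := hx u hu
    exact ⟨u', hu', by rw [mul_assoc, e, ← mul_assoc, e', mul_assoc]⟩

theorem inv23_listed {σ : Equiv.Perm GolayPt} (hσ : σ ∈ Spor.M23) (h2 : σ * σ = 1) (hne : σ ≠ 1) :
    ∃ t ∈ inv23, toPerm t = σ := by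
  haveI : Fact (Nat.Prime 2) := ⟨Nat.prime_two⟩
  let x : Spor.M23 := ⟨σ, hσ⟩
  have hx : orderOf x = 2 := orderOf_eq_prime (by rw [pow_two]; exact Subtype.ext h2)
    fun e => hne (congrArg Subtype.val e)
  have hP : IsPGroup 2 (Subgroup.zpowers x) :=
    IsPGroup.of_card (n := 1) (by rw [Nat.card_zpowers, hx, pow_one])
  obtain ⟨S, hS⟩ := hP.exists_le_sylow
  obtain ⟨k, hk⟩ := MulAction.exists_smul_eq Spor.M23 S m23SylHyp.sylow
  have hmem : (k * x * k⁻¹ : Spor.M23) ∈ (m23SylHyp.sylow : Subgroup Spor.M23) := by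
    rw [← hk, Sylow.coe_subgroup_smul, Subgroup.mem_pointwise_smul_iff_inv_smul_mem]
    simpa [MulAut.smul_def, mul_assoc] using hS (Subgroup.mem_zpowers _)
  rw [m23SylHyp.mem_sylow, m23Syl.mem_grp_iff m23SylHyp.grp] at hmem
  obtain ⟨p, hp, hpe⟩ := hmem
  simp only [Subgroup.coe_mul, Subgroup.coe_inv] at hpe
  have hv := (m23Syl.valid m23SylHyp.grp hp).1
  have h := inv23_table_ok
  simp only [Bool.and_eq_true, List.all_eq_true, Bool.or_eq_true, Bool.not_eq_true',
    List.contains_iff_mem] at h
  have e2 : ∀ z : Equiv.Perm GolayPt, (k : Equiv.Perm GolayPt) * z * (k : Equiv.Perm GolayPt)⁻¹ = 1 →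
      z = 1 := fun z e => by
    have := congrArg (fun w => (k : Equiv.Perm GolayPt)⁻¹ * w * (k : Equiv.Perm GolayPt)) e
    simpa [mul_assoc] using this
  rcases h.2 p hp with (hid | hnot) | hin
  · exact absurd (e2 σ (hpe ▸ toPerm_eq_one_of_isIdP hv hid)) hne
  · exfalso
    have hid : isIdP (compP p p) = true := by
      simp only [isIdP, List.all_eq_true, List.mem_range, beq_iff_eq]
      intro i hi
      have e : toPerm p * toPerm p = 1 := by
        rw [hpe]
        calc (k : Equiv.Perm GolayPt) * σ * (k : Equiv.Perm GolayPt)⁻¹ *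
            ((k : Equiv.Perm GolayPt) * σ * (k : Equiv.Perm GolayPt)⁻¹) =
            k * (σ * σ) * (k : Equiv.Perm GolayPt)⁻¹ := by group
          _ = 1 := by rw [h2, mul_one, mul_inv_cancel]
      have := congrArg (fun τ : Equiv.Perm GolayPt => (idx (τ (pt ⟨i, hi⟩)) : ℕ)) e
      rw [← toPerm_compP hv hv] at this
      simpa [idx_toPerm (validP_compP hv hv), idx_pt] using this
    rw [hid] at hnot; exact absurd hnot (by simp)
  obtain ⟨t', ht', e⟩ := M23_permutes_inv (Spor.M23.inv_mem k.2) p hin
  refine ⟨t', ht', ?_⟩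
  have e3 : toPerm t' = (k : Equiv.Perm GolayPt)⁻¹ * toPerm p * (k : Equiv.Perm GolayPt) := by
    rw [e, mul_assoc, inv_mul_cancel, mul_one]
  rw [e3, hpe]
  show (k : Equiv.Perm GolayPt)⁻¹ * ((k : Equiv.Perm GolayPt) * σ * (k : Equiv.Perm GolayPt)⁻¹) *
    (k : Equiv.Perm GolayPt) = σ
  group

/-- Above 23:11 in M23 there is only M23. -/
theorem eq_M23_of_aff_lt {K : Subgroup (Equiv.Perm GolayPt)} (hle : affGrp ≤ K)
    (hK : K ≤ Spor.M23) (hne : K ≠ affGrp) : K = Spor.M23 := by
  haveI : Fact (Nat.Prime 2) := ⟨Nat.prime_two⟩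
  haveI : Fact (Nat.Prime 23) := ⟨by norm_num⟩
  have hshift : toPerm shiftCode ∈ K :=
    hle shift_mem_aff
  by_cases h2 : 2 ∣ Nat.card K
  · -- an involution generates everything
    obtain ⟨x, hx⟩ := exists_prime_orderOf_dvd_card' 2 h2
    obtain ⟨t, ht, hte⟩ := inv23_listed (hK x.2)
      (by rw [← pow_two, ← Subgroup.coe_pow, ← hx, pow_orderOf_eq_one, Subgroup.coe_one])
      (fun e => by rw [show x = 1 from Subtype.ext e, orderOf_one] at hx; omega)
    have h := inv23_assign_ok
    simp only [Bool.and_eq_true, List.all_eq_true, beq_iff_eq, Nat.blt_eq] at h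
    obtain ⟨⟨⟨⟨⟨hla, hasg⟩, hs⟩, hlr⟩, hlp⟩, hprog⟩ := h
    have hl : inv23.length = 3795 := by
      have h := inv23_table_ok
      simp only [Bool.and_eq_true, beq_iff_eq] at h
      exact h.1.1.1.1.1.2
    obtain ⟨i, hi, rfl⟩ := List.mem_iff_getElem.1 ht
    obtain ⟨⟨ha, hb⟩, he⟩ := hasg (inv23[i], inv23Asg[i]'(by omega))
      (List.mem_iff_getElem.2 ⟨i, by rw [List.length_zip]; omega, List.getElem_zip⟩)
    simp only at ha hb he
    set a := (inv23Asg[i]'(by omega)).1
    set b := (inv23Asg[i]'(by omega)).2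
    have hlA : affElems.length = 253 := by
      have h := aff_ok
      simp only [Bool.and_eq_true, beq_iff_eq] at h
      exact h.1.1.1.2
    have hslot : getSlot 120 affTab a ∈ affElems := by
      have := slotsOk_spec _ _ hs a (by omega)
      rw [Nat.zero_add] at this
      rw [this]; exact List.getElem_mem _
    set n := getSlot 120 affTab a
    have hnv : validP n = true := by
      have h := aff_ok
      simp only [Bool.and_eq_true] at h
      exact (affCert.props h.1.1.1.1 hslot).1
    have hnK : toPerm n ∈ K := hle (mem_affGrp.2 ⟨n, hslot, rfl⟩)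
    rw [List.getD_eq_getElem inv23Reps _ (show b < inv23Reps.length by omega)] at he
    set r := inv23Reps[b]'(by omega)
    obtain ⟨⟨⟨hrv, hslp⟩, hix⟩, hout⟩ := hprog (r, inv23Progs[b]'(by omega))
      (List.mem_iff_getElem.2 ⟨b, by rw [List.length_zip]; omega, List.getElem_zip⟩)
    simp only at hrv hslp hix hout
    have htv : validP inv23[i] = true := by
      have h := inv23_table_ok
      simp only [Bool.and_eq_true, List.all_eq_true] at h
      exact h.1.1.1.1.2 _ ht
    have hrK : toPerm r ∈ K := by
      have e : toPerm r = (toPerm n)⁻¹ * toPerm inv23[i] * toPerm n := by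
        rw [mul_assoc, ← toPerm_compP htv hnv, ← he, toPerm_compP hnv hrv, inv_mul_cancel_left]
      rw [e]
      exact K.mul_mem (K.mul_mem (K.inv_mem hnK) (hte ▸ x.2)) hnK
    refine le_antisymm hK ?_
    rw [← m23_grp, GenCert.grp, Subgroup.closure_le]
    rintro _ ⟨g, hg, rfl⟩
    rw [← hout] at hg
    obtain ⟨k, hk, rfl⟩ := List.mem_map.1 hg
    have hk' : k < (slp [shiftCode, r] (inv23Progs[b]'(by omega)).1).length := by
      rw [slp_length]; exact hix k hk
    rw [List.getD_eq_getElem _ _ hk']
    refine (slp_mem (K := K) _ [shiftCode, r] hslp (fun p hp => ?_) _ (List.getElem_mem hk')).2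
    simp only [List.mem_cons, List.not_mem_nil, or_false] at hp
    rcases hp with rfl | rfl
    · exact ⟨valid_of_inM24 (aff_gens_props shift_mem).1, hshift⟩
    · exact ⟨hrv, hrK⟩
  · -- odd order: the translations are normal
    exfalso
    apply hne
    have hord : orderOf (⟨toPerm shiftCode, hshift⟩ : K) = 23 := by
      have hv := valid_of_inM24 (aff_gens_props shift_mem).1
      obtain ⟨hpv, hpe⟩ := toPerm_powP hv 22
      refine orderOf_eq_prime (Subtype.ext ?_) fun e => ?_
      · show toPerm shiftCode ^ (22 + 1) = 1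
        rw [← hpe]
        exact toPerm_eq_one_of_isIdP hpv (by decide +kernel)
      · have e' := congrArg (fun z : K => (z : Equiv.Perm GolayPt) (some 0)) e
        simp [shift_apply] at e'
    set c : K := ⟨toPerm shiftCode, hshift⟩
    obtain ⟨d, hd⟩ : 253 ∣ Nat.card K := card_affGrp ▸ Subgroup.card_dvd_of_le hle
    have hdvd : Nat.card K ∣ 10200960 := card_M23 ▸ Subgroup.card_dvd_of_le hK
    have hd315 : d ∣ 315 := by
      have h' : Nat.card K ∣ 253 * 315 := by
        have hcop : (Nat.card K).Coprime (2 ^ 7) :=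
          ((Nat.Prime.coprime_iff_not_dvd Nat.prime_two).2 h2).symm.pow_right 7
        exact hcop.dvd_mul_left.1 (by norm_num; exact hdvd)
      rw [hd] at h'
      exact Nat.dvd_of_mul_dvd_mul_left (by norm_num) h'
    have hd0 : d ≠ 0 := fun e => by rw [e, Nat.mul_zero] at hd; exact Nat.card_pos.ne' hd
    let P : Sylow 23 K := Sylow.ofCard (Subgroup.zpowers c) (by
      rw [Nat.card_zpowers, hord, hd, show 253 * d = 23 ^ 1 * (11 * d) by ring,
        Nat.factorization_mul (by norm_num) (by positivity), Finsupp.add_apply,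
        Nat.Prime.factorization_pow (by norm_num), Finsupp.single_eq_same,
        Nat.factorization_eq_zero_of_not_dvd (n := 11 * d) (fun hh => by
          rcases (Nat.Prime.dvd_mul (by norm_num)).1 hh with hh | hh
          · exact absurd hh (by norm_num)
          · exact absurd (hh.trans hd315) (by norm_num)), Nat.add_zero, pow_one])
    have hPc : (P : Subgroup K) = Subgroup.zpowers c := rfl
    set N := Subgroup.normalizer ((P : Subgroup K) : Set K)
    have hnorm : ∀ g : K, g ∈ N → (g : Equiv.Perm GolayPt) ∈ affGrp := by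
      intro g hg
      have hmem : g * c * g⁻¹ ∈ Subgroup.zpowers c :=
        (Subgroup.mem_normalizer_iff.1 hg c).1 (Subgroup.mem_zpowers c)
      obtain ⟨m, hm⟩ := (mem_powers_iff_mem_zpowers (x := c)).2 hmem
      simp only at hm
      refine mem_aff_of_normalises (hK g.2) (m := m) ?_
      have e := congrArg Subtype.val hm
      simp only [Subgroup.coe_pow, Subgroup.coe_mul, Subgroup.coe_inv] at e
      rw [show toPerm shiftCode ^ m = (g : Equiv.Perm GolayPt) * toPerm shiftCode *
        (g : Equiv.Perm GolayPt)⁻¹ from e, inv_mul_cancel_right]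
    have hNd : Nat.card N ∣ 253 := by
      have hle' : N.map K.subtype ≤ affGrp := by
        rintro _ ⟨g, hg, rfl⟩; exact hnorm g hg
      have hdd := Subgroup.card_dvd_of_le hle'
      rwa [card_affGrp, ← Nat.card_congr (N.equivMapOfInjective _ K.subtype_injective).toEquiv] at hdd
    have hN253 : Nat.card N = 253 := by
      refine Nat.dvd_antisymm hNd ?_
      have hsub : affGrp.subgroupOf K ≤ N := by
        have hc : (affGrp.subgroupOf K).map K.subtype = affGrp := by
          rw [Subgroup.map_subgroupOf_eq_of_le hle]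
        rw [← Subgroup.map_le_map_iff_of_injective K.subtype_injective, hc, affGrp, ListCert.grp,
          Subgroup.closure_le]
        rintro _ ⟨g, hg, rfl⟩
        refine ⟨⟨toPerm g, hle (Subgroup.subset_closure ⟨g, hg, rfl⟩)⟩, ?_, rfl⟩
        rw [SetLike.mem_coe]
        have hgc : ∃ m : ℕ, toPerm g * toPerm shiftCode * (toPerm g)⁻¹ = toPerm shiftCode ^ m := by
          rw [show affCert.gens = [shiftCode, doubleCode] from rfl] at hg
          simp only [List.mem_cons, List.not_mem_nil, or_false] at hg
          rcases hg with rfl | rfl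
          · exact ⟨1, by rw [pow_one, mul_inv_cancel_right]⟩
          · refine ⟨2, ?_⟩
            have hv := valid_of_inM24 (aff_gens_props double_mem).1
            have hw := valid_of_inM24 (aff_gens_props shift_mem).1
            rw [pow_two, mul_inv_eq_iff_eq_mul, ← toPerm_compP hv hw, ← toPerm_compP hw hw,
              ← toPerm_compP (validP_compP hw hw) hv,
              show compP doubleCode shiftCode = compP (compP shiftCode shiftCode) doubleCode by decide +kernel]
        obtain ⟨m, hm⟩ := hgc
        set G : K := ⟨toPerm g, hle (Subgroup.subset_closure ⟨g, hg, rfl⟩)⟩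
        have hm' : G * c * G⁻¹ = c ^ m := Subtype.ext hm
        have hsubP : ∀ y ∈ Subgroup.zpowers c, G * y * G⁻¹ ∈ Subgroup.zpowers c := by
          intro y hy
          obtain ⟨z, rfl⟩ := Subgroup.mem_zpowers_iff.1 hy
          rw [← conj_zpow, hm']
          exact Subgroup.zpow_mem _ (Subgroup.pow_mem _ (Subgroup.mem_zpowers c) _) _
        refine Subgroup.mem_normalizer_iff.2 fun y => ⟨fun hy => hsubP y hy, fun hy => ?_⟩
        have hmap : (Subgroup.zpowers c).map (MulAut.conj G).toMonoidHom = Subgroup.zpowers c :=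
          Subgroup.eq_of_le_of_card_ge (by rintro _ ⟨w, hw, rfl⟩; exact hsubP w hw)
            (le_of_eq (Nat.card_congr ((Subgroup.zpowers c).equivMapOfInjective _
              (MulAut.conj G).injective).toEquiv))
        have hy' : G * y * G⁻¹ ∈ (Subgroup.zpowers c).map (MulAut.conj G).toMonoidHom := hmap.symm ▸ hy
        obtain ⟨w, hw, hwe⟩ := hy'
        rwa [show y = w from ((MulAut.conj G).injective hwe).symm]
      rw [← card_affGrp, ← Nat.card_congr (Subgroup.subgroupOfEquivOfLe hle).toEquiv]
      exact Subgroup.card_dvd_of_le hsub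
    have hsyl := P.card_eq_index_normalizer
    have hidx : N.index = d := by
      have h := N.index_mul_card
      rw [hN253, hd] at h
      omega
    have hmod := card_sylow_modEq_one 23 K
    rw [hsyl] at hmod
    have hd1 : d = 1 := by
      have key : ∀ e ∈ Nat.divisors 315, e % 23 = 1 → e = 1 := by decide
      exact key d (Nat.mem_divisors.2 ⟨hd315, by norm_num⟩) (hidx ▸ hmod)
    exact (Subgroup.eq_of_le_of_card_ge hle (le_of_eq (by rw [hd, hd1, card_affGrp]))).symm

end

end Cfsg.Agent.Golay24.Index
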