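import Cfsg.Agent.Lib.Golay.Index.Line23

/-!
The named generating sets of the two groups, and maximality.
-/

set_option autoImplicit false

namespace Cfsg.Agent.Golay24.Index

noncomputable section

open Cfsg
open scoped Pointwise

attribute [local irreducible] weightList codeList

/-- Multiplications by squares. -/
abbrev squareMaps : Set (Equiv.Perm GolayPt) :=
  {g | ∃ u : (ZMod 23)ˣ, IsSquare u ∧ g = Equiv.optionCongr (Units.mulLeft u)}

theorem shift_named : toPerm shiftCode = Equiv.optionCongr (Equiv.addRight (1 : ZMod 23)) :=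
  Equiv.ext fun x => by rw [shift_apply]; cases x <;> rfl

theorem flip_named : toPerm flipCode = projInv := by
  refine Equiv.ext fun x => ?_
  rw [toPerm_apply (valid_of_inM24 (line_gens_valid (by simp)))]
  revert x; decide +kernel

theorem double_valid : validP doubleCode = true := valid_of_inM24 (aff_gens_props double_mem).1

theorem square_powers : ∀ v : ZMod 23, v ≠ 0 → ∃ i ∈ List.range 11,
    ∀ x : GolayPt, appPt (powP doubleCode (i + 1)) x = x.map (v * v * ·) := by
  decide +kernel

theorem squareMaps_le : squareMaps ⊆ (affGrp : Set (Equiv.Perm GolayPt)) := by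
  rintro g ⟨u, ⟨v, rfl⟩, rfl⟩
  haveI : Fact (Nat.Prime 23) := ⟨by norm_num⟩
  obtain ⟨i, -, hi⟩ := square_powers v v.ne_zero
  obtain ⟨hv, he⟩ := toPerm_powP double_valid i
  have : Equiv.optionCongr (Units.mulLeft (v * v)) = toPerm doubleCode ^ (i + 1) := by
    rw [← he]
    refine Equiv.ext fun x => ?_
    rw [toPerm_apply hv, hi]
    cases x <;> rfl
  rw [SetLike.mem_coe, this]
  exact affGrp.pow_mem double_mem_aff _

/-- The unit five. -/
def fiveU : (ZMod 23)ˣ := ⟨5, 14, by decide, by decide⟩

theorem double_map : ∀ x : GolayPt, appPt doubleCode x = x.map ((5 : ZMod 23) * 5 * ·) := by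
  decide +kernel

theorem double_named : toPerm doubleCode ∈ squareMaps := by
  refine ⟨fiveU * fiveU, ⟨_, rfl⟩, Equiv.ext fun x => ?_⟩
  rw [toPerm_apply double_valid, double_map]
  cases x <;> rfl

theorem aff_closure :
    Subgroup.closure ({Equiv.optionCongr (Equiv.addRight (1 : ZMod 23))} ∪ squareMaps) = affGrp := by
  refine le_antisymm ?_ ?_
  · rw [Subgroup.closure_le]
    rintro g (hg | hg)
    · rw [Set.mem_singleton_iff] at hg
      rw [hg, ← shift_named]; exact shift_mem_aff
    · exact squareMaps_le hg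
  · rw [affGrp, ListGroup.ListCert.grp, Subgroup.closure_le]
    rintro _ ⟨g, hg, rfl⟩
    rw [show affCert.gens = [shiftCode, doubleCode] from rfl] at hg
    simp only [List.mem_cons, List.not_mem_nil, or_false] at hg
    rcases hg with rfl | rfl
    · exact Subgroup.subset_closure (Or.inl shift_named)
    · exact Subgroup.subset_closure (Or.inr double_named)

theorem line_closure :
    Subgroup.closure ({Equiv.optionCongr (Equiv.addRight (1 : ZMod 23)), projInv} ∪ squareMaps) =
      lineGrp := by
  refine le_antisymm ?_ ?_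
  · rw [Subgroup.closure_le]
    rintro g (hg | hg)
    · rcases hg with hg | hg
      · rw [hg, ← shift_named]; exact affGrp_le_lineGrp shift_mem_aff
      · rw [Set.mem_singleton_iff] at hg
        rw [hg, ← flip_named]
        exact Subgroup.subset_closure ⟨flipCode, by simp, rfl⟩
    · exact affGrp_le_lineGrp (squareMaps_le hg)
  · rw [lineGrp, Subgroup.closure_le]
    rintro _ ⟨g, hg, rfl⟩
    simp only [List.mem_cons, List.not_mem_nil, or_false] at hg
    rcases hg with rfl | rfl | rfl
    · exact Subgroup.subset_closure (Or.inl (Or.inl shift_named))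
    · exact Subgroup.subset_closure (Or.inr double_named)
    · exact Subgroup.subset_closure (Or.inl (Or.inr flip_named))

theorem lineGrp_coatom : IsCoatom (lineGrp.subgroupOf M24) := by
  constructor
  · intro h
    have := congrArg (fun K : Subgroup M24 => Nat.card K) h
    simp only [Nat.card_congr (Subgroup.subgroupOfEquivOfLe lineGrp_le).toEquiv, card_lineGrp,
      Nat.card_congr Subgroup.topEquiv.toEquiv, card_M24] at this
    omega
  intro K hlt
  let K' := K.map M24.subtype
  have hle : lineGrp ≤ K' := fun x hx =>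
    ⟨⟨x, lineGrp_le hx⟩, hlt.le (Subgroup.mem_subgroupOf.2 hx), rfl⟩
  have hcK : Nat.card K' = Nat.card K :=
    (Nat.card_congr (K.equivMapOfInjective _ M24.subtype_injective).toEquiv).symm
  have h24 := card_hOrb_mul K' none
  rw [hOrb_line hle, hcK] at h24
  have hne : K' ⊓ MulAction.stabilizer (Equiv.Perm GolayPt) (none : GolayPt) ≠ affGrp := fun e => by
    rw [e, card_affGrp] at h24
    have hc : Nat.card K ≤ Nat.card (lineGrp.subgroupOf M24) := by
      rw [Nat.card_congr (Subgroup.subgroupOfEquivOfLe lineGrp_le).toEquiv, card_lineGrp]; omega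
    exact hlt.ne (Subgroup.eq_of_le_of_card_ge hlt.le hc)
  have hM : K' ⊓ MulAction.stabilizer (Equiv.Perm GolayPt) (none : GolayPt) = Spor.M23 :=
    eq_M23_of_aff_lt (fun x hx => ⟨hle (affGrp_le_lineGrp hx), (affGrp_le hx).2⟩)
      (fun x hx => ⟨Subgroup.map_subtype_le _ hx.1, hx.2⟩) hne
  rw [hM, card_M23] at h24
  exact Subgroup.eq_top_of_card_eq _ (by rw [card_M24]; omega)

theorem affGrp_coatom :
    IsCoatom ((affGrp.subgroupOf M24).subgroupOf (MulAction.stabilizer M24 (none : GolayPt))) := by
  have hmemS : ∀ x : Equiv.Perm GolayPt, ∀ h : x ∈ Spor.M23,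
      (⟨x, h.1⟩ : M24) ∈ MulAction.stabilizer M24 (none : GolayPt) := fun x h => h.2
  constructor
  · intro htop
    obtain ⟨g, hg, hne⟩ : ∃ g ∈ Spor.M23, g ∉ affGrp := by
      by_contra hc
      simp only [not_exists, not_and, not_not] at hc
      have := Subgroup.card_le_of_le (fun x hx => hc x hx : Spor.M23 ≤ affGrp)
      rw [card_M23, card_affGrp] at this
      omega
    exact hne ((Subgroup.eq_top_iff' _).1 htop ⟨⟨g, hg.1⟩, hmemS g hg⟩)
  intro K hlt
  let K' := (K.map (MulAction.stabilizer M24 (none : GolayPt)).subtype).map M24.subtype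
  have hle : affGrp ≤ K' := fun x hx =>
    ⟨⟨x, (affGrp_le hx).1⟩, ⟨⟨⟨x, (affGrp_le hx).1⟩, hmemS x (affGrp_le hx)⟩,
      hlt.le (Subgroup.mem_subgroupOf.2 (Subgroup.mem_subgroupOf.2 hx)), rfl⟩, rfl⟩
  have hK : K' ≤ Spor.M23 := by
    rintro _ ⟨a, ⟨b, -, rfl⟩, rfl⟩
    exact ⟨(b : M24).2, b.2⟩
  have hne : K' ≠ affGrp := fun e => by
    refine hlt.ne (le_antisymm hlt.le fun a ha => ?_)
    rw [Subgroup.mem_subgroupOf, Subgroup.mem_subgroupOf, ← e]
    exact ⟨(a : M24), ⟨a, ha, rfl⟩, rfl⟩
  have hM := eq_M23_of_aff_lt hle hK hne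
  rw [Subgroup.eq_top_iff']
  intro a
  have : ((a : M24) : Equiv.Perm GolayPt) ∈ K' := hM ▸ ⟨(a : M24).2, a.2⟩
  obtain ⟨_, ⟨b, hb, rfl⟩, hbe⟩ := this
  rwa [← Subtype.ext (Subtype.ext hbe) (a1 := b)]

end

end Cfsg.Agent.Golay24.Index
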