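import Cfsg.Agent.Lib.Golay.Index.OddTools
import Cfsg.Agent.Lib.Golay.Index.OddData
import Cfsg.Agent.Lib.Golay.SylowM22

/-!
Subgroups of M22 of index 11, 33, 77.
-/

set_option autoImplicit false

namespace Cfsg.Agent.Golay24.Index

noncomputable section

open Cfsg
open scoped Pointwise

attribute [local irreducible] weightList codeList

theorem orbs22_ok : (orbsOk m22Syl.gens orbs22 &&
    ((unionMasks orbs22).filter (fun m => m.testBit 9 && !m.testBit 0 && !m.testBit 23)).all
      (fun m => [1049088, 8354808, 1082886, 8388606].contains m)) = true := by decide +kernel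

theorem low22_ok : (lowOk low22Two m22Cert.gens && (low22Two.root == 1049088) &&
    (low22Two.orb.length == 78) &&
    lowOk low22Big m22Cert.gens && (low22Big.root == 8354808) && (low22Big.orb.length == 78) &&
    lowOk low22Six m22Cert.gens && (low22Six.root == 1082886) && (low22Six.orb.length == 77)) = true := by
  decide +kernel

theorem m22_fix (g : P24) (hg : g ∈ Spor.M22) :
    g (none : GolayPt) = none ∧ g (some 0 : GolayPt) = some 0 := ⟨hg.1.2, hg.2⟩

/-- The only subgroups of these indices are the stabilisers of hexads. -/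
theorem m22_odd {H : Subgroup P24} (hH : H ≤ Spor.M22) {n : ℕ}
    (hn : n * Nat.card H = 443520) (hcase : n = 11 ∨ n = 33 ∨ n = 77) :
    n = 77 ∧ ∃ g ∈ Spor.M22, H = setStab Spor.M22 (g • setOf 1082886) := by
  rw [← card_M22] at hn
  obtain ⟨g, hg, hT⟩ := exists_sylow_le m22SylHyp hH hn (by omega)
  set H' := conjBy g H with hH'
  have hH'le : H' ≤ Spor.M22 := conjBy_le hg hH
  have hn' : n * Nat.card H' = Nat.card Spor.M22 := by rw [hH', card_conjBy]; exact hn
  have hgens : ∀ t ∈ m22Cert.gens, toPerm t ∈ Spor.M22 := fun t ht => m22_gens ht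
  have hok := orbs22_ok
  simp only [Bool.and_eq_true, List.all_eq_true, List.contains_iff_mem] at hok
  obtain ⟨m, hm, hU⟩ := hOrb_mem_unions hok.1 (fun t ht => hT (syl_gen_mem _ ht)) (pt ⟨9, by norm_num⟩)
  have h9 := hOrb_testBit hU
  have hzero := hOrb_not_testBit hU (b := some 0) (fun t ht => (m22_fix t (hH'le ht)).2) (by decide)
  have hnone := hOrb_not_testBit hU (b := none) (fun t ht => (m22_fix t (hH'le ht)).1) (by decide)
  rw [idx_pt] at h9
  have hmem := hok.2 m (List.mem_filter.2 ⟨hm, by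
    rw [Bool.and_eq_true, Bool.and_eq_true, Bool.not_eq_true', Bool.not_eq_true']
    exact ⟨⟨h9, hzero⟩, hnone⟩⟩)
  have hle := le_setStab_hOrb hH'le (pt ⟨9, by norm_num⟩)
  have hdvd := hOrb_dvd H' (pt ⟨9, by norm_num⟩)
  rw [hU] at hle hdvd
  have hl := low22_ok
  simp only [Bool.and_eq_true, beq_iff_eq] at hl
  obtain ⟨⟨⟨⟨⟨⟨⟨⟨o2, r2⟩, l2⟩, oB⟩, rB⟩, lB⟩, o6⟩, r6⟩, l6⟩ := hl
  simp only [List.mem_cons, List.not_mem_nil, or_false] at hmem
  rcases hmem with rfl | rfl | rfl | rfl
  · exact (no_orb o2 hgens (r2.symm ▸ hle) hn' (by omega)).elim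
  · exact (no_orb oB hgens (rB.symm ▸ hle) hn' (by omega)).elim
  · rcases hcase with h | h | h
    · exact (no_orb o6 hgens (r6.symm ▸ hle) hn' (by omega)).elim
    · exact (no_orb o6 hgens (r6.symm ▸ hle) hn' (by omega)).elim
    · refine ⟨h, g⁻¹, Spor.M22.inv_mem hg, ?_⟩
      have he := eq_of_orb o6 hgens (r6.symm ▸ hle) hn' (by omega)
      rw [r6] at he
      rw [eq_conjBy_of_conjBy_eq he, conjBy_setStab (Spor.M22.inv_mem hg)]
  · exfalso
    rw [card_setOf, show pop24 8388606 = 22 by decide +kernel] at hdvd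
    rw [card_M22] at hn'
    obtain ⟨k, hk⟩ := hdvd
    rw [hk] at hn'
    rcases hcase with rfl | rfl | rfl <;> omega

end

end Cfsg.Agent.Golay24.Index
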