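import Cfsg.Agent.Lib.Golay.Index.M22
import Cfsg.Agent.Lib.Golay.Index.JoinData
import Cfsg.Agent.Lib.Golay.SylowM23

/-!
Subgroups of M23 of index 253, 759, 1771.
-/

set_option autoImplicit false

namespace Cfsg.Agent.Golay24.Index

noncomputable section

open Cfsg
open scoped Pointwise

attribute [local irreducible] weightList codeList

theorem orbs23_ok : (orbsOk m23Syl.gens orbs23 &&
    ((unionMasks orbs23).filter (fun m => m.testBit 0 && !m.testBit 23)).all
      (fun m => [1, 2162689, 6289, 2168977, 6225919].contains m ||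
        [17, 19, 23].contains (pop24 m))) = true := by decide +kernel

theorem low23_ok : (lowOk low23Three m23Cert.gens && (low23Three.root == 2162689) &&
    (low23Three.orb.length == 1771) &&
    lowOk low23Five m23Cert.gens && (low23Five.root == 6289) && (low23Five.orb.length == 1772) &&
    lowOk low23Seven m23Cert.gens && (low23Seven.root == 2168977) && (low23Seven.orb.length == 253) &&
    lowOk low23Co m23Cert.gens && (low23Co.root == 6225919) && (low23Co.orb.length == 253) &&
    lowOk low23Six m23Cert.gens && (low23Six.root == 1082886) && (low23Six.orb.length == 1771)) = true := by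
  decide +kernel

/-- A perfect certified subgroup: generators are commutators of members. -/
def perfOk (c : GenCert) (w : List (ℕ × ℕ)) : Bool :=
  c.ok && (w.length == c.gens.length) &&
    (c.gens.zip w).all fun gw => Nat.blt gw.2.1 (c.gens.length + c.prog.length) &&
      Nat.blt gw.2.2 (c.gens.length + c.prog.length) &&
      (compP gw.1 (compP ((slp c.gens c.prog).getD gw.2.2 0) ((slp c.gens c.prog).getD gw.2.1 0)) ==
        compP ((slp c.gens c.prog).getD gw.2.1 0) ((slp c.gens c.prog).getD gw.2.2 0))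

theorem perf_ok : (perfOk perfSeven perfSevenWit && perfOk perfCo perfCoWit &&
    perfSeven.gens.all (fun g => (app g 23 == 23) && (img g 2168977 == 2168977)) &&
    perfCo.gens.all (fun g => (app g 23 == 23) && (img g 6225919 == 6225919)) &&
    (chainProd perfSeven.chain == 40320) && (chainProd perfCo.chain == 20160)) = true := by
  decide +kernel

theorem perfect_of_perfOk {c : GenCert} {w : List (ℕ × ℕ)} (h : perfOk c w = true) :
    commutator ↥c.grp = ⊤ := by
  refine perfect_of_commutators (K := c.grp) rfl ?_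
  simp only [perfOk, Bool.and_eq_true, List.all_eq_true, beq_iff_eq, Nat.blt_eq] at h
  obtain ⟨⟨hok, hwl⟩, hw⟩ := h
  rintro _ ⟨g, hg, rfl⟩
  obtain ⟨i, hi, rfl⟩ := List.mem_iff_getElem.1 hg
  obtain ⟨⟨ha, hb⟩, he⟩ := hw (c.gens[i], w[i]'(by omega))
    (List.mem_iff_getElem.2 ⟨i, by rw [List.length_zip]; omega, List.getElem_zip⟩)
  simp only at ha hb he
  have hok' := hok
  simp only [GenCert.ok, Bool.and_eq_true] at hok'
  have hmem : ∀ k, k < c.gens.length + c.prog.length → validP ((slp c.gens c.prog).getD k 0) = true ∧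
      toPerm ((slp c.gens c.prog).getD k 0) ∈ c.grp := fun k hk => by
    rw [List.getD_eq_getElem _ _ (by rw [slp_length]; exact hk)]
    exact slp_mem c.prog c.gens hok'.1.1.2 (fun p hp => ⟨c.gen_valid hok hp, c.gen_mem hp⟩) _
      (List.getElem_mem _)
  obtain ⟨hav, ham⟩ := hmem _ ha
  obtain ⟨hbv, hbm⟩ := hmem _ hb
  refine ⟨_, ham, _, hbm, ?_⟩
  have e := congrArg toPerm he
  rw [toPerm_compP (c.gen_valid hok hg) (validP_compP hbv hav), toPerm_compP hbv hav,
    toPerm_compP hav hbv] at e
  rw [eq_mul_inv_iff_mul_eq, eq_mul_inv_iff_mul_eq, mul_assoc]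
  exact e

theorem perf_le {c : GenCert} {w : List (ℕ × ℕ)} {m : ℕ} (h : perfOk c w = true)
    (hfix : ∀ g ∈ c.gens, app g 23 = 23 ∧ img g m = m) {H : Subgroup P24}
    (hle : H ≤ setStab Spor.M23 (setOf m)) (hi : Nat.card (setStab Spor.M23 (setOf m)) ≤ 4 * Nat.card H) :
    chainProd c.chain ≤ Nat.card H := by
  have hok : c.ok = true := by
    simp only [perfOk, Bool.and_eq_true] at h; exact h.1.1
  have hKG : c.grp ≤ setStab Spor.M23 (setOf m) := by
    rw [GenCert.grp, Subgroup.closure_le]
    rintro _ ⟨g, hg, rfl⟩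
    have hv := c.gen_valid hok hg
    refine ⟨⟨c.grp_le_M24 hok (c.gen_mem hg), ?_⟩, ?_⟩
    · exact pt23 ▸ toPerm_mem_stabilizer (by norm_num) hv (hfix g hg).1
    · show toPerm g • setOf m = setOf m
      rw [smul_setOf hv, (hfix g hg).2]
  exact (c.le_card hok).trans (Subgroup.card_le_of_le (perfect_le hle hKG (perfect_of_perfOk h) hi))

theorem co_eq : setOf 2162688 = ((Finset.univ : Finset GolayPt) \ setOf 6225919) \ {none} := by
  decide +kernel

theorem co_eq' : setOf 6225919 = ((Finset.univ : Finset GolayPt) \ setOf 2162688) \ {none} := by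
  decide +kernel

theorem setStab_co : setStab Spor.M23 (setOf 6225919) = setStab Spor.M23 (setOf 2162688) := by
  have key : ∀ g ∈ Spor.M23, ∀ A B : Finset GolayPt,
      B = ((Finset.univ : Finset GolayPt) \ A) \ {none} → g • A = A → g • B = B := by
    intro g hg A B hB hA
    have hn : g • ({none} : Finset GolayPt) = {none} := by
      rw [Finset.smul_finset_singleton]; exact congrArg _ hg.2
    rw [hB, Finset.smul_finset_sdiff, Finset.smul_finset_sdiff, Finset.smul_finset_univ, hA, hn]
  ext g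
  exact ⟨fun h => ⟨h.1, key g h.1 _ _ co_eq h.2⟩, fun h => ⟨h.1, key g h.1 _ _ co_eq' h.2⟩⟩

theorem low23_gens : ∀ t ∈ m23Cert.gens, toPerm t ∈ Spor.M23 := fun _ ht => m23_gens ht

/-- All subgroups of M23 of index 253, 759 and 1771. -/
theorem m23_odd {H : Subgroup P24} (hH : H ≤ Spor.M23) {n : ℕ}
    (hn : n * Nat.card H = 10200960) (hcase : n = 253 ∨ n = 759 ∨ n = 1771) :
    ∃ g ∈ Spor.M23, ∃ m : ℕ, H = setStab Spor.M23 (g • setOf m) ∧
      ((n = 253 ∧ (m = 2168977 ∨ m = 2162688)) ∨ (n = 1771 ∧ (m = 2162689 ∨ m = 1082886))) := by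
  rw [← card_M23] at hn
  obtain ⟨g, hg, hT⟩ := exists_sylow_le m23SylHyp hH hn (by omega)
  set H' := conjBy g H with hH'
  have hH'le : H' ≤ Spor.M23 := conjBy_le hg hH
  have hn' : n * Nat.card H' = Nat.card Spor.M23 := by rw [hH', card_conjBy]; exact hn
  have hback : ∀ m, H' = setStab Spor.M23 (setOf m) → H = setStab Spor.M23 (g⁻¹ • setOf m) := fun m e => by
    rw [eq_conjBy_of_conjBy_eq e, conjBy_setStab (Spor.M23.inv_mem hg)]
  have hok := orbs23_ok
  simp only [Bool.and_eq_true, List.all_eq_true, Bool.or_eq_true, List.contains_iff_mem] at hok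
  obtain ⟨m, hm, hU⟩ := hOrb_mem_unions hok.1 (fun t ht => hT (syl_gen_mem _ ht)) (some 0 : GolayPt)
  have h0 : m.testBit 0 = true := hOrb_testBit hU
  have hnone : m.testBit 23 = false :=
    hOrb_not_testBit hU (b := none) (fun t ht => (hH'le ht).2) (by decide)
  have hmem := hok.2 m (List.mem_filter.2 ⟨hm, by
    rw [Bool.and_eq_true, Bool.not_eq_true']
    exact ⟨h0, hnone⟩⟩)
  have hle := le_setStab_hOrb hH'le (some 0 : GolayPt)
  have hmul := card_hOrb_mul H' (some 0 : GolayPt)
  rw [hU] at hle hmul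
  rw [card_setOf] at hmul
  have hcard : n * Nat.card H' = 10200960 := by rw [hn', card_M23]
  have hl := low23_ok
  simp only [Bool.and_eq_true, beq_iff_eq] at hl
  obtain ⟨⟨⟨⟨⟨⟨⟨⟨⟨⟨⟨⟨⟨⟨o3, r3⟩, l3⟩, o5⟩, r5⟩, l5⟩, o7⟩, r7⟩, l7⟩, oC⟩, rC⟩, lC⟩, o6⟩, r6⟩, l6⟩ := hl
  have hp := perf_ok
  simp only [Bool.and_eq_true, List.all_eq_true, beq_iff_eq] at hp
  obtain ⟨⟨⟨⟨⟨p7, pC⟩, f7⟩, fC⟩, c7⟩, cC⟩ := hp
  rcases hmem with hmem | hmem
  swap
  · exfalso
    simp only [List.mem_cons, List.not_mem_nil, or_false] at hmem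
    rcases hcase with rfl | rfl | rfl <;> rcases hmem with e | e | e <;> rw [e] at hmul <;> omega
  simp only [List.mem_cons, List.not_mem_nil, or_false] at hmem
  rcases hmem with rfl | rfl | rfl | rfl | rfl
  · -- a fixed point: inside M22
    rw [show pop24 1 = 1 by decide +kernel, Nat.one_mul] at hmul
    have hH22 : H' ≤ Spor.M22 := by
      have h : H' ⊓ MulAction.stabilizer P24 (some 0 : GolayPt) = H' :=
        Subgroup.eq_of_le_of_card_ge inf_le_left (le_of_eq hmul.symm)
      intro x hx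
      exact ⟨hH'le hx, (h.symm ▸ hx : x ∈ H' ⊓ _).2⟩
    obtain ⟨k, hk⟩ : ∃ k, n = 23 * k := by
      rcases hcase with rfl | rfl | rfl
      exacts [⟨11, rfl⟩, ⟨33, rfl⟩, ⟨77, rfl⟩]
    obtain ⟨h77, u, hu, he⟩ := m22_odd hH22 (n := k)
      (Nat.eq_of_mul_eq_mul_left (show 0 < 23 by norm_num) (by rw [← Nat.mul_assoc, ← hk, hcard]))
      (by omega)
    refine ⟨g⁻¹ * u, Spor.M23.mul_mem (Spor.M23.inv_mem hg) hu.1, 1082886, ?_, Or.inr ⟨by omega, Or.inr rfl⟩⟩
    have hle6 : H' ≤ setStab Spor.M23 (u • setOf 1082886) := fun x hx => by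
      rw [he] at hx; exact ⟨hx.1.1, hx.2⟩
    have he' : H' = setStab Spor.M23 (u • setOf 1082886) := by
      refine setStab_eq_of_card hle6 ?_
      rw [← conjBy_setStab hu.1, card_conjBy]
      have := orb_mul_le o6 low23_gens
      rw [l6, r6, card_M23] at this
      rw [show n = 1771 by omega] at hcard
      omega
    rw [eq_conjBy_of_conjBy_eq he', conjBy_setStab (Spor.M23.inv_mem hg), mul_smul]
  · -- a triple
    rcases hcase with h | h | h
    · exact (no_orb o3 low23_gens (r3.symm ▸ hle) hn' (by omega)).elim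
    · exact (no_orb o3 low23_gens (r3.symm ▸ hle) hn' (by omega)).elim
    · have e := eq_of_orb o3 low23_gens (r3.symm ▸ hle) hn' (by omega)
      rw [r3] at e
      exact ⟨g⁻¹, Spor.M23.inv_mem hg, _, hback _ e, Or.inr ⟨h, Or.inl rfl⟩⟩
  · exact (no_orb o5 low23_gens (r5.symm ▸ hle) hn' (by omega)).elim
  · -- a heptad
    rw [show pop24 2168977 = 7 by decide +kernel] at hmul
    rcases hcase with h | h | h
    · have e := eq_of_orb o7 low23_gens (r7.symm ▸ hle) hn' (by omega)
      rw [r7] at e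
      exact ⟨g⁻¹, Spor.M23.inv_mem hg, _, hback _ e, Or.inl ⟨h, Or.inl rfl⟩⟩
    · exfalso
      subst h
      have hb := orb_mul_le o7 low23_gens
      rw [l7, r7, card_M23] at hb
      have := perf_le p7 f7 hle (by omega)
      omega
    · exfalso; subst h; omega
  · -- the complement of a pair
    rw [show pop24 6225919 = 21 by decide +kernel] at hmul
    rcases hcase with h | h | h
    · have e := eq_of_orb oC low23_gens (rC.symm ▸ hle) hn' (by omega)
      rw [rC, setStab_co] at e
      exact ⟨g⁻¹, Spor.M23.inv_mem hg, _, hback _ e, Or.inl ⟨h, Or.inr rfl⟩⟩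
    · exfalso
      subst h
      have hb := orb_mul_le oC low23_gens
      rw [lC, rC, card_M23] at hb
      have := perf_le pC fC hle (by omega)
      omega
    · exfalso; subst h; omega

end

end Cfsg.Agent.Golay24.Index
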