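import Cfsg.Agent.Lib.Golay.Index.M23
import Cfsg.Agent.Lib.Golay.SylowM24
import Cfsg.Agent.Lib.Golay.SextetStab
import Cfsg.Agent.S1565

/-!
Subgroups of M24 of index 253, 759, 1771.
-/

set_option autoImplicit false

namespace Cfsg.Agent.Golay24.Index

noncomputable section

open Cfsg
open scoped Pointwise

attribute [local irreducible] weightList codeList combTo cosetLeads sextList m24Prog

theorem heptad_octad : setOf 10557585 ∈ octads ∧
    setOf 10557585 = insert none (setOf 2168977) ∧ (none : GolayPt) ∉ setOf 2168977 := by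
  refine ⟨setOf_mem_octads (by decide +kernel), by decide +kernel, by decide +kernel⟩

/-- Subgroups of index 253, 759, 1771 in the stabiliser of any point. -/
theorem point_odd (x : GolayPt) {H : Subgroup P24}
    (hH : H ≤ M24 ⊓ MulAction.stabilizer P24 x) {n : ℕ} (hn : n * Nat.card H = 10200960)
    (hcase : n = 253 ∨ n = 759 ∨ n = 1771) :
    ∃ U : Finset GolayPt, x ∉ U ∧ H = setStab (M24 ⊓ MulAction.stabilizer P24 x) U ∧
      ((n = 253 ∧ (U.card = 2 ∨ (U.card = 7 ∧ insert x U ∈ octads))) ∨
        (n = 1771 ∧ (U.card = 3 ∨ U.card = 6))) := by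
  obtain ⟨σ, hσ⟩ := carries_point x
  have hσx : σ none = x := by
    have h := hσ.2
    simp only [List.map_cons, List.map_nil, List.cons.injEq, and_true] at h
    rw [setOf_p, Finset.smul_finset_singleton, Finset.singleton_inj] at h
    exact h
  have hσM : σ ∈ M24 := hσ.1
  have h23 : conjBy σ Spor.M23 = M24 ⊓ MulAction.stabilizer P24 x := by
    rw [Spor.M23, conjBy_inf_stabilizer, conjBy_eq_self hσM, hσx]
  have hH' : conjBy σ⁻¹ H ≤ Spor.M23 := by
    rw [← conjBy_one Spor.M23, ← inv_mul_cancel σ, ← conjBy_conjBy, h23]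
    exact Subgroup.map_mono hH
  obtain ⟨g, hg, m, he, hm⟩ := m23_odd hH' (n := n) (by rw [card_conjBy]; exact hn) hcase
  refine ⟨σ • g • setOf m, ?_, ?_, ?_⟩
  · have hnone : (none : GolayPt) ∉ setOf m := by
      rcases hm with ⟨-, rfl | rfl⟩ | ⟨-, rfl | rfl⟩ <;> decide +kernel
    intro h
    rw [← hσx, show σ none = σ • (none : GolayPt) from rfl, Finset.smul_mem_smul_finset_iff,
      show (none : GolayPt) = g • (none : GolayPt) from hg.2.symm,
      Finset.smul_mem_smul_finset_iff] at h
    exact hnone h
  · rw [eq_conjBy_of_conjBy_eq he, inv_inv, conjBy_setStab', h23]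
  · rcases hm with ⟨h, rfl | rfl⟩ | ⟨h, rfl | rfl⟩
    · refine Or.inl ⟨h, Or.inr ⟨by rw [Finset.card_smul_finset, Finset.card_smul_finset, card_setOf]; decide +kernel, ?_⟩⟩
      rw [← hσx, show σ none = σ • g • (none : GolayPt) by rw [show g • (none : GolayPt) = none from hg.2]; rfl,
        ← Finset.smul_finset_insert, ← Finset.smul_finset_insert, ← heptad_octad.2.1]
      exact smul_mem_octads hσM (smul_mem_octads hg.1 heptad_octad.1)
    · exact Or.inl ⟨h, Or.inl (by rw [Finset.card_smul_finset, Finset.card_smul_finset, card_setOf]; decide +kernel)⟩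
    · exact Or.inr ⟨h, Or.inl (by rw [Finset.card_smul_finset, Finset.card_smul_finset, card_setOf]; decide +kernel)⟩
    · exact Or.inr ⟨h, Or.inr (by rw [Finset.card_smul_finset, Finset.card_smul_finset, card_setOf]; decide +kernel)⟩

theorem orbs24_ok : (orbsOk m24Syl.gens orbs24 &&
    ((unionMasks orbs24).filter (fun m => m.testBit 0)).all (fun m => [551943, 16777215].contains m) &&
    isOct 551943) = true := by
  decide +kernel

theorem orbsPt_ok : (orbsOk sylPtGens orbsPt &&
    sylPtGens.all (fun t => m24Syl.elems.contains t && (app t 0 == 0)) &&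
    ((unionMasks orbsPt).filter (fun m => !m.testBit 0 && [2, 3, 6, 7].contains (pop24 m))).all
      (fun m => [18432, 18436, 551938, 551942].contains m)) = true := by
  decide +kernel

theorem join_ok : (
    joinTwoGens.all (fun t => inM24 t && (app t 0 == 0) && (img t 18432 == 18432)) &&
    slpOk (m24Syl.gens.length + joinTwoGens.length) joinTwoProg &&
    joinTwoIx.all (fun k => Nat.blt k (m24Syl.gens.length + joinTwoGens.length + joinTwoProg.length)) &&
    (joinTwoIx.map (fun k => (slp (m24Syl.gens ++ joinTwoGens) joinTwoProg).getD k 0) == m24Gens) &&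
    joinThreeGens.all (fun t => inM24 t && (app t 0 == 0) && (img t 18436 == 18436)) &&
    joinSixGens.all (fun t => inM24 t && (app t 0 == 0) && (img t 551938 == 551938)) &&
    joinSevenGens.all (fun t => inM24 t && (app t 0 == 0) && (img t 551942 == 551942)) &&
    joinThree.ok && (chainProd joinThree.chain == 138240) &&
    (joinThree.gens == m24Syl.gens ++ joinThreeGens) &&
    fourB (canon4 18437) &&
    joinThree.gens.all (fun t => inM24 t && (sextAct t (canon4 18437) == canon4 18437)) &&
    joinSix.ok && (chainProd joinSix.chain == 322560) &&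
    (joinSix.gens == m24Syl.gens ++ joinSixGens) &&
    joinSeven.ok && (chainProd joinSeven.chain == 322560) &&
    (joinSeven.gens == m24Syl.gens ++ joinSevenGens) &&
    joinSeven.gens.all (fun t => img t 551943 == 551943)) = true := by
  decide +kernel

theorem card_octad_setStab {o : Finset GolayPt} (ho : o ∈ octads) :
    Nat.card (setStab M24 o) = 322560 := by
  refine card_inf_stabilizer (S := octads) M24 o (n := 759) ho (fun g hg y hy => smul_mem_octads hg hy)
    (fun y hy => ?_) octads_ncard (by rw [card_M24]) (by norm_num)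
  obtain ⟨σ, hσ, h⟩ := exists_octad_map ho hy
  exact ⟨σ, hσ, h⟩

theorem card_sextet_stab {S : Finset (Finset GolayPt)} (hS : S ∈ sextets) :
    Nat.card ↥(M24 ⊓ MulAction.stabilizer P24 S) = 138240 := by
  refine card_inf_stabilizer (S := sextets) M24 S (n := 1771) hS
    (fun g hg y hy => smul_mem_sextets hg hy) (fun y hy => ?_) sextets_ncard (by rw [card_M24])
    (by norm_num)
  obtain ⟨σ, hσ, h⟩ := exists_sextet_map hy
  obtain ⟨τ, hτ, h'⟩ := exists_sextet_map hS
  refine ⟨σ * τ⁻¹, M24.mul_mem hσ (M24.inv_mem hτ), ?_⟩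
  rw [mul_smul, ← h', inv_smul_smul, h]

/-- All subgroups of M24 of index 253, 759, 1771. -/
theorem m24_odd {H : Subgroup P24} (hH : H ≤ M24) {n : ℕ}
    (hn : n * Nat.card H = 244823040) (hcase : n = 253 ∨ n = 759 ∨ n = 1771) :
    (n = 759 ∧ ∃ o ∈ octads, H = setStab M24 o) ∨
      (n = 1771 ∧ ∃ S ∈ sextets, H = M24 ⊓ MulAction.stabilizer P24 S) := by
  obtain ⟨g, hg, hT⟩ := exists_sylow_le m24SylHyp hH (hn.trans card_M24.symm) (by omega)
  obtain ⟨H', hH'⟩ : ∃ K, K = conjBy g H := ⟨_, rfl⟩
  rw [← hH'] at hT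
  have hH'le : H' ≤ M24 := hH' ▸ conjBy_le hg hH
  have hcard : n * Nat.card H' = 244823040 := by rw [hH', card_conjBy]; exact hn
  have hS : ∀ t ∈ m24Syl.gens, toPerm t ∈ H' := fun t ht => hT (syl_gen_mem _ ht)
  have hok := orbs24_ok
  simp only [Bool.and_eq_true, List.all_eq_true, List.contains_iff_mem] at hok
  obtain ⟨m, hm, hU⟩ := hOrb_mem_unions hok.1.1 hS (some 0 : GolayPt)
  have hmem := hok.1.2 m (List.mem_filter.2 ⟨hm, hOrb_testBit hU⟩)
  have hle := le_setStab_hOrb hH'le (some 0 : GolayPt)
  have hmul := card_hOrb_mul H' (some 0 : GolayPt)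
  rw [hU] at hle hmul
  rw [card_setOf] at hmul
  have hoct : setOf 551943 ∈ octads := setOf_mem_octads hok.2
  simp only [List.mem_cons, List.not_mem_nil, or_false] at hmem
  rcases hmem with rfl | rfl
  · -- an octad is fixed
    have hc := card_octad_setStab hoct
    have h1 := Subgroup.card_le_of_le hle
    rcases hcase with h | h | h
    · exfalso; subst h; omega
    · refine Or.inl ⟨h, g⁻¹ • setOf 551943, smul_mem_octads (M24.inv_mem hg) hoct, ?_⟩
      subst h
      have hcc : Nat.card H' = 322560 := by omega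
      rw [eq_conjBy_of_conjBy_eq (hH'.symm.trans (setStab_eq_of_card hle (hc.trans hcc.symm).le)),
        conjBy_setStab (M24.inv_mem hg)]
    · exfalso
      obtain ⟨k, hk⟩ := Subgroup.card_dvd_of_le hle
      rw [hc] at hk
      subst h
      rw [show Nat.card H' = 138240 by omega] at hk
      omega
  · -- transitive
    rw [show pop24 16777215 = 24 by decide +kernel] at hmul
    set Hx := H' ⊓ MulAction.stabilizer P24 (some 0 : GolayPt) with hHx
    have hnx : n * Nat.card Hx = 10200960 := by
      rw [← hmul] at hcard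
      rw [Nat.mul_left_comm] at hcard
      omega
    obtain ⟨U, hxU, heU, hUc⟩ := point_odd (some 0) (H := Hx) (fun y hy => ⟨hH'le hy.1, hy.2⟩) hnx hcase
    have hok' := orbsPt_ok
    simp only [Bool.and_eq_true, List.all_eq_true, List.contains_iff_mem, beq_iff_eq] at hok'
    obtain ⟨⟨hpo, hpt⟩, hpm⟩ := hok'
    have hptH : ∀ t ∈ sylPtGens, toPerm t ∈ Hx := fun t ht => by
      have hv := (m24Syl.valid m24SylHyp.grp (hpt t ht).1).1
      exact ⟨hT (m24Syl.elem_mem m24SylHyp.grp (hpt t ht).1),
        toPerm_mem_stabilizer (b := 0) (by norm_num) hv (hpt t ht).2⟩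
    obtain ⟨u, hu, rfl⟩ := invariant_mem_unions hpo fun t ht => by
      have := hptH t ht
      rw [heU] at this
      exact this.2
    have hu0 : u.testBit 0 = false := by
      rw [Bool.eq_false_iff]; exact fun e => hxU (mem_setOf.2 e)
    have hucard : pop24 u ∈ [2, 3, 6, 7] := by
      rw [← card_setOf]
      simp only [List.mem_cons, List.not_mem_nil, or_false]
      rcases hUc with ⟨-, h | ⟨h, -⟩⟩ | ⟨-, h | h⟩ <;> omega
    have humem := hpm u (List.mem_filter.2 ⟨hu, by
      rw [Bool.and_eq_true, Bool.not_eq_true', List.contains_iff_mem]; exact ⟨hu0, hucard⟩⟩)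
    have hin : ∀ t, inM24 t = true → app t 0 = 0 → img t u = u → toPerm t ∈ H' := fun t h1 h2 h3 => by
      have hv := valid_of_inM24 h1
      have : toPerm t ∈ Hx := by
        rw [heU]
        refine ⟨⟨toPerm_mem_M24 h1, toPerm_mem_stabilizer (b := 0) (by norm_num) hv h2⟩, ?_⟩
        show toPerm t • setOf u = setOf u
        rw [smul_setOf hv, h3]
      exact this.1
    have hJ := join_ok
    simp only [Bool.and_eq_true, List.all_eq_true, beq_iff_eq, Nat.blt_eq] at hJ
    obtain ⟨⟨⟨⟨⟨⟨⟨⟨⟨⟨⟨⟨⟨⟨⟨⟨⟨⟨h2g, h2s⟩, h2i⟩, h2o⟩, h3g⟩, h6g⟩, h7g⟩, h3ok⟩, h3c⟩, h3e⟩, hf4⟩, h3s⟩, h6ok⟩, h6c⟩, h6e⟩, h7ok⟩, h7c⟩, h7e⟩, h7f⟩ := hJ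
    have hvS : ∀ t ∈ m24Syl.gens, validP t = true := fun t ht => (m24Syl.gens_valid m24SylHyp.grp ht).1
    simp only [List.mem_cons, List.not_mem_nil, or_false] at humem
    rcases humem with rfl | rfl | rfl | rfl
    · -- a pair: the whole group
      exfalso
      have htop : M24 ≤ H' := by
        refine M24_le_of_gens fun t ht => ?_
        rw [← h2o] at ht
        obtain ⟨k, hk, rfl⟩ := List.mem_map.1 ht
        have hk' : k < (slp (m24Syl.gens ++ joinTwoGens) joinTwoProg).length := by
          rw [slp_length, List.length_append]; exact h2i k hk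
        rw [List.getD_eq_getElem _ _ hk']
        refine (slp_mem (K := H') _ _ (by rw [List.length_append]; exact h2s) (fun p hp => ?_) _
          (List.getElem_mem hk')).2
        rcases List.mem_append.1 hp with hp | hp
        · exact ⟨hvS p hp, hS p hp⟩
        · exact ⟨valid_of_inM24 (h2g p hp).1.1, hin p (h2g p hp).1.1 (h2g p hp).1.2 (h2g p hp).2⟩
      have := Subgroup.card_le_of_le htop
      rw [card_M24] at this
      rcases hcase with rfl | rfl | rfl <;> omega
    · -- a triple: a sextet
      have hn1771 : n = 1771 := by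
        rcases hUc with ⟨-, h | ⟨h, -⟩⟩ | ⟨h, -⟩
        · rw [card_setOf, show pop24 18436 = 3 by decide +kernel] at h; omega
        · rw [card_setOf, show pop24 18436 = 3 by decide +kernel] at h; omega
        · exact h
      have hSx : semSext (canon4 18437) ∈ sextets := (sextOf_mem (fourB_card hf4).2.2).1
      have hJle : joinThree.grp ≤ H' := by
        rw [GenCert.grp, Subgroup.closure_le]
        rintro _ ⟨t, ht, rfl⟩
        rw [h3e] at ht
        rcases List.mem_append.1 ht with ht | ht
        exacts [hS t ht, hin t (h3g t ht).1.1 (h3g t ht).1.2 (h3g t ht).2]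
      have hJS : joinThree.grp ≤ M24 ⊓ MulAction.stabilizer P24 (semSext (canon4 18437)) := by
        rw [GenCert.grp, Subgroup.closure_le]
        rintro _ ⟨t, ht, rfl⟩
        obtain ⟨htM, hts⟩ := h3s t ht
        refine ⟨toPerm_mem_M24 htM, ?_⟩
        show toPerm t • semSext (canon4 18437) = semSext (canon4 18437)
        rw [← semSext_act htM hf4, hts]
      have hcJ := h3c ▸ joinThree.le_card h3ok
      have hcS := card_sextet_stab hSx
      have e1 : joinThree.grp = H' := Subgroup.eq_of_le_of_card_ge hJle (by subst hn1771; omega)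
      have e2 : joinThree.grp = M24 ⊓ MulAction.stabilizer P24 (semSext (canon4 18437)) :=
        Subgroup.eq_of_le_of_card_ge hJS (by omega)
      refine Or.inr ⟨hn1771, g⁻¹ • semSext (canon4 18437), smul_mem_sextets (M24.inv_mem hg) hSx, ?_⟩
      rw [eq_conjBy_of_conjBy_eq (hH'.symm.trans (e1.symm.trans e2))]
      ext y
      rw [mem_conjBy, inv_inv, Subgroup.mem_inf, Subgroup.mem_inf]
      refine and_congr ⟨fun h => ?_, fun h => M24.mul_mem (M24.mul_mem hg h) (M24.inv_mem hg)⟩ ?_
      · simpa [mul_assoc] using M24.mul_mem (M24.mul_mem (M24.inv_mem hg) h) hg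
      · rw [MulAction.mem_stabilizer_iff, MulAction.mem_stabilizer_iff, mul_smul, mul_smul,
          ← eq_inv_smul_iff]
    · -- six points
      exfalso
      have hJle : joinSix.grp ≤ H' := by
        rw [GenCert.grp, Subgroup.closure_le]
        rintro _ ⟨t, ht, rfl⟩
        rw [h6e] at ht
        rcases List.mem_append.1 ht with ht | ht
        exacts [hS t ht, hin t (h6g t ht).1.1 (h6g t ht).1.2 (h6g t ht).2]
      have := (h6c ▸ joinSix.le_card h6ok).trans (Subgroup.card_le_of_le hJle)
      rcases hUc with ⟨-, h | ⟨h, -⟩⟩ | ⟨h, -⟩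
      · rw [card_setOf, show pop24 551938 = 6 by decide +kernel] at h; omega
      · rw [card_setOf, show pop24 551938 = 6 by decide +kernel] at h; omega
      · subst h; omega
    · -- seven points
      exfalso
      have hn253 : n = 253 := by
        rcases hUc with ⟨h, -⟩ | ⟨-, h | h⟩
        · exact h
        · rw [card_setOf, show pop24 551942 = 7 by decide +kernel] at h; omega
        · rw [card_setOf, show pop24 551942 = 7 by decide +kernel] at h; omega
      subst hn253
      have hJle : joinSeven.grp ≤ H' := by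
        rw [GenCert.grp, Subgroup.closure_le]
        rintro _ ⟨t, ht, rfl⟩
        rw [h7e] at ht
        rcases List.mem_append.1 ht with ht | ht
        exacts [hS t ht, hin t (h7g t ht).1.1 (h7g t ht).1.2 (h7g t ht).2]
      have hJO : joinSeven.grp = setStab M24 (setOf 551943) := by
        refine Subgroup.eq_of_le_of_card_ge ?_ (by
          rw [card_octad_setStab hoct]; exact h7c ▸ joinSeven.le_card h7ok)
        rw [GenCert.grp, Subgroup.closure_le]
        rintro _ ⟨t, ht, rfl⟩
        refine ⟨joinSeven.grp_le_M24 h7ok (joinSeven.gen_mem ht), ?_⟩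
        show toPerm t • setOf 551943 = setOf 551943
        rw [smul_setOf (joinSeven.gen_valid h7ok ht), h7f t ht]
      have hco : IsCoatom (MulAction.stabilizer M24 (setOf 551943)) := S1565.result _ hoct
      have hge : MulAction.stabilizer M24 (setOf 551943) ≤ H'.subgroupOf M24 := fun y hy =>
        Subgroup.mem_subgroupOf.2 (hJle (hJO ▸ ⟨y.2, hy⟩))
      have hc0 := card_octad_setStab hoct
      rw [← Nat.card_congr (stabInfEquiv M24 (setOf 551943)).toEquiv] at hc0
      have hcH := Nat.card_congr (Subgroup.subgroupOfEquivOfLe hH'le).toEquiv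
      rcases hco.le_iff.1 hge with e | e
      · rw [e, Nat.card_congr Subgroup.topEquiv.toEquiv, card_M24] at hcH; omega
      · rw [e, hc0] at hcH; omega

end

end Cfsg.Agent.Golay24.Index
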