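import Cfsg.Agent.Lib.Golay.Index.Eleven
import Cfsg.Agent.Lib.Golay.Index.M24Odd

/-!
The results on subgroups of given index, for abstract subgroups.
-/

set_option autoImplicit false

namespace Cfsg.Agent.Golay24.Index

noncomputable section

open Cfsg
open scoped Pointwise

attribute [local irreducible] weightList codeList

theorem card_map_subtype {A : Type*} [Group A] {S : Subgroup A} (H : Subgroup S) :
    Nat.card (H.map S.subtype) = Nat.card H :=
  (Nat.card_congr (H.equivMapOfInjective _ S.subtype_injective).toEquiv).symm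

theorem two_point_no_index {p q : GolayPt} (hpq : p ≠ q)
    (H : Subgroup ↥(MulAction.stabilizer M24 p ⊓ MulAction.stabilizer M24 q)) :
    H.index ≠ 56 ∧ H.index ≠ 210 := by
  obtain ⟨e⟩ := stab_two_equiv p q hpq
  let K := (H.map e.toMonoidHom).map Spor.M22.subtype
  have hK : K ≤ Spor.M22 := Subgroup.map_subtype_le _
  have hc : Nat.card K = Nat.card H := by
    rw [card_map_subtype]
    exact (Nat.card_congr (H.equivMapOfInjective _ e.injective).toEquiv).symm
  have h : H.index * Nat.card K = 443520 := by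
    rw [hc, H.index_mul_card, Nat.card_congr e.toEquiv, card_M22]
  exact ⟨fun e56 => m22_small_index hK (n := 56) (e56 ▸ h) (Or.inr (Or.inl rfl)),
    fun e210 => m22_small_index hK (n := 210) (e210 ▸ h) (Or.inr (Or.inr rfl))⟩

theorem index_253_point (x : GolayPt) (H : Subgroup ↥(MulAction.stabilizer M24 x))
    (hH : H.index = 253) :
    (∃ s : Finset GolayPt, s.card = 2 ∧ x ∉ s ∧
      H = (MulAction.stabilizer M24 s).subgroupOf (MulAction.stabilizer M24 x)) ∨
    ∃ o ∈ octads, x ∈ o ∧
      H = (MulAction.stabilizer M24 o).subgroupOf (MulAction.stabilizer M24 x) := by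
  let K := (H.map (MulAction.stabilizer M24 x).subtype).map M24.subtype
  have hK : K ≤ M24 ⊓ MulAction.stabilizer (Equiv.Perm GolayPt) x := by
    rintro _ ⟨a, ⟨b, -, rfl⟩, rfl⟩
    exact ⟨(b : M24).2, b.2⟩
  have hc : Nat.card K = Nat.card H := by rw [card_map_subtype, card_map_subtype]
  have hn : 253 * Nat.card K = 10200960 := by
    obtain ⟨e⟩ := stab_one_equiv x
    rw [hc, ← hH, H.index_mul_card, Nat.card_congr e.toEquiv, card_M23]
  obtain ⟨U, hxU, he, hU⟩ := point_odd x hK hn (Or.inl rfl)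
  have hmem : ∀ a : ↥(MulAction.stabilizer M24 x), a ∈ H ↔
      ((a : M24) : Equiv.Perm GolayPt) • U = U := by
    intro a
    constructor
    · intro ha
      have : ((a : M24) : Equiv.Perm GolayPt) ∈ K := ⟨_, ⟨a, ha, rfl⟩, rfl⟩
      rw [he] at this
      exact this.2
    · intro h
      have : ((a : M24) : Equiv.Perm GolayPt) ∈ K := by
        rw [he]; exact ⟨⟨(a : M24).2, a.2⟩, h⟩
      obtain ⟨_, ⟨b, hb, rfl⟩, hbe⟩ := this
      rwa [← Subtype.ext (Subtype.ext hbe) (a1 := b)]
  rcases hU with ⟨-, h2 | ⟨h7, ho⟩⟩ | ⟨h, -⟩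
  · exact Or.inl ⟨U, h2, hxU, Subgroup.ext fun a => by rw [hmem]; exact Iff.rfl⟩
  · refine Or.inr ⟨insert x U, ho, Finset.mem_insert_self _ _, Subgroup.ext fun a => ?_⟩
    have hax : ((a : M24) : Equiv.Perm GolayPt) • x = x := a.2
    rw [hmem, Subgroup.mem_subgroupOf, MulAction.mem_stabilizer_iff]
    show _ ↔ ((a : M24) : Equiv.Perm GolayPt) • insert x U = insert x U
    rw [Finset.smul_finset_insert, hax]
    refine ⟨fun h => by rw [h], fun h => ?_⟩
    have hxa : x ∉ ((a : M24) : Equiv.Perm GolayPt) • U := fun hx => hxU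
      ((Finset.smul_mem_smul_finset_iff ((a : M24) : Equiv.Perm GolayPt)).1 (hax.symm ▸ hx))
    rw [← Finset.erase_insert hxa, h, Finset.erase_insert hxU]
  · exact absurd h (by norm_num)

theorem m24_indices :
    (∀ H : Subgroup ↥M24, H.index = 759 → ∃ o ∈ octads, H = MulAction.stabilizer M24 o) ∧
    (∀ H : Subgroup ↥M24, H.index = 276 → ∃ s : Finset GolayPt, s.card = 2 ∧
      H = MulAction.stabilizer M24 s) ∧
    (∀ H : Subgroup ↥M24, H.index = 1771 → ∃ S ∈ sextets, H = MulAction.stabilizer M24 S) ∧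
    ∀ H : Subgroup ↥M24, H.index ≠ 253 := by
  have hn : ∀ (H : Subgroup ↥M24) (n : ℕ), H.index = n →
      n * Nat.card (H.map M24.subtype) = 244823040 := fun H n h => by
    rw [card_map_subtype, ← h, H.index_mul_card, card_M24]
  have back : ∀ {β : Type} [MulAction (Equiv.Perm GolayPt) β] (s : β) (H : Subgroup ↥M24),
      H.map M24.subtype = M24 ⊓ MulAction.stabilizer (Equiv.Perm GolayPt) s →
      H = MulAction.stabilizer M24 s := by
    intro β _ s H h
    ext a
    rw [MulAction.mem_stabilizer_iff]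
    constructor
    · intro ha
      have : (a : Equiv.Perm GolayPt) ∈ H.map M24.subtype := ⟨a, ha, rfl⟩
      rw [h] at this
      exact this.2
    · intro ha
      have : (a : Equiv.Perm GolayPt) ∈ H.map M24.subtype := by rw [h]; exact ⟨a.2, ha⟩
      obtain ⟨b, hb, hbe⟩ := this
      rwa [← Subtype.ext hbe (a1 := b)]
  refine ⟨fun H h => ?_, fun H h => ?_, fun H h => ?_, fun H h => ?_⟩
  · rcases m24_odd (Subgroup.map_subtype_le H) (hn H _ h) (Or.inr (Or.inl rfl)) with ⟨-, o, ho, e⟩ | ⟨e, -⟩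
    · exact ⟨o, ho, back o H e⟩
    · exact absurd e (by norm_num)
  · obtain ⟨s, hs, e⟩ := m24_276 (Subgroup.map_subtype_le H) (hn H _ h)
    exact ⟨s, hs, back s H e⟩
  · rcases m24_odd (Subgroup.map_subtype_le H) (hn H _ h) (Or.inr (Or.inr rfl)) with ⟨e, -⟩ | ⟨-, S, hS, e⟩
    · exact absurd e (by norm_num)
    · exact ⟨S, hS, back S H e⟩
  · rcases m24_odd (Subgroup.map_subtype_le H) (hn H _ h) (Or.inl rfl) with ⟨e, -⟩ | ⟨e, -⟩ <;>
      exact absurd e (by norm_num)

end

end Cfsg.Agent.Golay24.Index
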